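import Mathlib

/-! Permuted families of subspaces in unitary representations: orthogonality and frame bounds. -/

set_option autoImplicit false
set_option maxHeartbeats 400000

namespace Cfsg.Agent.Lib.KnownA.LS

open Module
open scoped ComplexInnerProductSpace

variable {G : Type*} [Group G] {V : Type*} [NormedAddCommGroup V] [InnerProductSpace ℂ V] [FiniteDimensional ℂ V]
  (ρ : Representation ℂ G V)

/-- Preservation of the inner product. -/
def IsUnitary : Prop := ∀ g v w, ⟪ρ g v, ρ g w⟫ = ⟪v, w⟫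

/-- The vectors fixed by a set of group elements. -/
def fixedSp (s : Set G) : Submodule ℂ V where
  carrier := {v | ∀ g ∈ s, ρ g v = v}
  add_mem' {v w} hv hw g hg := by rw [map_add, hv g hg, hw g hg]
  zero_mem' g _ := map_zero _
  smul_mem' c v hv g hg := by rw [map_smul, hv g hg]

/-- Invariance of a subspace under a set of group elements. -/
def Invariant (s : Set G) (Z : Submodule ℂ V) : Prop := ∀ g ∈ s, ∀ v ∈ Z, ρ g v ∈ Z

variable {ρ}

omit [FiniteDimensional ℂ V] in
theorem rho_inv_apply (g : G) (v : V) : ρ g⁻¹ (ρ g v) = v := by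
  rw [← Module.End.mul_apply, ← map_mul, inv_mul_cancel, map_one, Module.End.one_apply]

omit [FiniteDimensional ℂ V] in
theorem rho_apply_inv (g : G) (v : V) : ρ g (ρ g⁻¹ v) = v := by
  rw [← Module.End.mul_apply, ← map_mul, mul_inv_cancel, map_one, Module.End.one_apply]

omit [FiniteDimensional ℂ V] in
theorem rho_injective (g : G) : Function.Injective (ρ g) := fun v w h => by
  simpa [rho_inv_apply] using congrArg (ρ g⁻¹) h

omit [FiniteDimensional ℂ V] in
theorem fixedSp_closure {s : Set G} {v : V} (hv : v ∈ fixedSp ρ s) {g : G} (hg : g ∈ Subgroup.closure s) :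
    ρ g v = v := by
  induction hg using Subgroup.closure_induction with
  | mem x hx => exact hv x hx
  | one => rw [map_one, Module.End.one_apply]
  | mul a b _ _ ha hb => rw [map_mul, Module.End.mul_apply, hb, ha]
  | inv a _ ha => conv_lhs => rw [← ha, rho_inv_apply]

omit [FiniteDimensional ℂ V] in
theorem fixedSp_anti {s t : Set G} (h : s ⊆ t) : fixedSp ρ t ≤ fixedSp ρ s := fun _ hv g hg => hv g (h hg)

omit [FiniteDimensional ℂ V] in
theorem fixedSp_map {s t : Set G} (g : G) (h : ∀ x ∈ s, g * x * g⁻¹ ∈ t) (h' : ∀ x ∈ t, g⁻¹ * x * g⁻¹⁻¹ ∈ s) :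
    (fixedSp ρ s).map (ρ g) = fixedSp ρ t := by
  ext v
  rw [Submodule.mem_map]
  constructor
  · rintro ⟨w, hw, rfl⟩ x hx
    have := hw _ (h' x hx)
    rw [inv_inv, map_mul, map_mul, Module.End.mul_apply, Module.End.mul_apply] at this
    simpa [rho_apply_inv] using congrArg (ρ g) this
  · intro hv
    refine ⟨ρ g⁻¹ v, fun x hx => ?_, rho_apply_inv g v⟩
    have := hv _ (h x hx)
    rw [map_mul, map_mul, Module.End.mul_apply, Module.End.mul_apply] at this
    simpa [rho_inv_apply] using congrArg (ρ g⁻¹) this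

omit [FiniteDimensional ℂ V] in
theorem map_inf' (g : G) (A B : Submodule ℂ V) : (A ⊓ B).map (ρ g) = A.map (ρ g) ⊓ B.map (ρ g) :=
  Submodule.map_inf _ (rho_injective g)

omit [FiniteDimensional ℂ V] in
theorem inner_rho_left (hU : IsUnitary ρ) (g : G) (v w : V) : ⟪ρ g v, w⟫ = ⟪v, ρ g⁻¹ w⟫ := by
  rw [← hU g v, rho_apply_inv]

omit [FiniteDimensional ℂ V] in
theorem map_orthogonal (hU : IsUnitary ρ) (g : G) (A : Submodule ℂ V) : Aᗮ.map (ρ g) = (A.map (ρ g))ᗮ := by
  ext v
  rw [Submodule.mem_map]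
  constructor
  · rintro ⟨w, hw, rfl⟩
    rintro _ ⟨u, hu, rfl⟩
    rw [hU]; exact hw u hu
  · intro hv
    refine ⟨ρ g⁻¹ v, fun u hu => ?_, rho_apply_inv g v⟩
    rw [← inner_rho_left hU]
    exact hv _ (Submodule.mem_map_of_mem hu)

theorem map_starProjection (hU : IsUnitary ρ) (g : G) {A B : Submodule ℂ V} (h : A.map (ρ g) = B) (v : V) :
    ρ g (A.starProjection v) = B.starProjection (ρ g v) := by
  refine (Submodule.eq_starProjection_of_mem_of_inner_eq_zero ?_ fun w hw => ?_).symm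
  · rw [← h]; exact Submodule.mem_map_of_mem (A.starProjection_apply_mem v)
  · rw [← h, Submodule.mem_map] at hw
    obtain ⟨u, hu, rfl⟩ := hw
    rw [← map_sub, hU]
    exact A.starProjection_inner_eq_zero v u hu

omit [FiniteDimensional ℂ V] in
theorem finrank_map_rho (g : G) (A : Submodule ℂ V) : finrank ℂ (A.map (ρ g)) = finrank ℂ A :=
  (Submodule.equivMapOfInjective (ρ g) (rho_injective g) A).finrank_eq.symm

theorem invariant_orthogonal (hU : IsUnitary ρ) {H : Subgroup G} {Z : Submodule ℂ V}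
    (h : Invariant ρ H Z) : Invariant ρ H Zᗮ := by
  intro g hg v hv u hu
  have e : ⟪u, ρ g v⟫ = ⟪ρ g⁻¹ u, v⟫ := by rw [inner_rho_left hU, inv_inv]
  rw [e]
  exact hv _ (h _ (inv_mem hg) u hu)

omit [FiniteDimensional ℂ V] in
theorem inner_eq_inner_proj (A : Submodule ℂ V) [A.HasOrthogonalProjection] {w : V} (hw : w ∈ A) (v : V) :
    ⟪w, v⟫ = ⟪w, A.starProjection v⟫ := by
  rw [← sub_eq_zero, ← inner_sub_right, ← inner_conj_symm, A.starProjection_inner_eq_zero v w hw, map_zero]

theorem norm_sq_proj (U : Submodule ℂ V) (v : V) :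
    ‖U.starProjection v‖ ^ 2 = ∑ j, ‖⟪((stdOrthonormalBasis ℂ U j : U) : V), v⟫‖ ^ 2 := by
  have h := (stdOrthonormalBasis ℂ U).sum_sq_norm_inner_right ⟨_, U.starProjection_apply_mem v⟩
  rw [Submodule.coe_norm] at h
  rw [← h]
  refine Finset.sum_congr rfl fun j _ => ?_
  rw [Submodule.coe_inner]
  rw [← inner_eq_inner_proj U (stdOrthonormalBasis ℂ U j).2 v]

theorem sum_finrank_le_of_orth {ι : Type*} [Fintype ι] (U : ι → Submodule ℂ V)
    (h : ∀ i j, i ≠ j → ∀ x ∈ U i, ∀ y ∈ U j, ⟪x, y⟫ = 0) : ∑ i, finrank ℂ (U i) ≤ finrank ℂ V := by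
  have ho : Orthonormal ℂ (fun p : Σ i, Fin (finrank ℂ (U i)) => ((stdOrthonormalBasis ℂ (U p.1) p.2 : U p.1) : V)) := by
    classical
    rw [orthonormal_iff_ite]
    rintro ⟨i, a⟩ ⟨j, b⟩
    by_cases hij : i = j
    · subst hij
      rw [← Submodule.coe_inner, orthonormal_iff_ite.mp (stdOrthonormalBasis ℂ (U i)).orthonormal a b]
      simp
    · rw [if_neg (fun e => hij (congrArg Sigma.fst e))]
      exact h i j hij _ (Submodule.coe_mem _) _ (Submodule.coe_mem _)
  simpa using ho.linearIndependent.fintype_card_le_finrank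

section frame

variable {ι : Type*} [Fintype ι] (U : ι → Submodule ℂ V)

/-- The sum of the projections. -/
noncomputable def frameOp : V →ₗ[ℂ] V := ∑ i, ((U i).starProjection : V →ₗ[ℂ] V)

theorem frameOp_apply (v : V) : frameOp U v = ∑ i, (U i).starProjection v := by
  simp [frameOp]

theorem frameOp_inner (v : V) : ⟪frameOp U v, v⟫ = ((∑ i, ‖(U i).starProjection v‖ ^ 2 : ℝ) : ℂ) := by
  rw [frameOp_apply, sum_inner]
  push_cast
  refine Finset.sum_congr rfl fun i _ => ?_
  rw [inner_eq_inner_proj (U i) ((U i).starProjection_apply_mem v) v, inner_self_eq_norm_sq_to_K]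
  rfl

theorem frameOp_symmetric : (frameOp U).IsSymmetric := by
  intro v w
  rw [frameOp_apply, frameOp_apply, sum_inner, inner_sum]
  exact Finset.sum_congr rfl fun i _ => (U i).inner_starProjection_left_eq_right v w

theorem frameOp_comm (hU : IsUnitary ρ) {g : G} (σ : ι ≃ ι) (h : ∀ i, (U i).map (ρ g) = U (σ i)) (v : V) :
    ρ g (frameOp U v) = frameOp U (ρ g v) := by
  rw [frameOp_apply, frameOp_apply, map_sum]
  exact Fintype.sum_equiv σ _ _ fun i => map_starProjection hU g (h i) v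

theorem bessel_dim {κ : Type*} [Fintype κ] {b : κ → V} (hb : Orthonormal ℂ b) (W : Submodule ℂ V) :
    ∑ i, ‖W.starProjection (b i)‖ ^ 2 ≤ (finrank ℂ W : ℝ) := by
  simp only [norm_sq_proj]
  rw [Finset.sum_comm]
  calc ∑ j, ∑ i, ‖⟪((stdOrthonormalBasis ℂ W j : W) : V), b i⟫‖ ^ 2
      ≤ ∑ _j : Fin (finrank ℂ W), (1 : ℝ) := Finset.sum_le_sum fun j _ => by
        have h := hb.sum_inner_products_le (((stdOrthonormalBasis ℂ W j : W) : V)) (s := Finset.univ)
        rw [show ‖((stdOrthonormalBasis ℂ W j : W) : V)‖ = 1 from (stdOrthonormalBasis ℂ W).orthonormal.1 j, one_pow] at h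
        refine le_trans (le_of_eq (Finset.sum_congr rfl fun i _ => ?_)) h
        rw [← inner_conj_symm, RCLike.norm_conj]
    _ = _ := by simp

/-- An upper frame bound from the sizes of invariant subspaces. -/
theorem frame_bound (hU : IsUnitary ρ) (H : Set G) (Z : Submodule ℂ V) (hUZ : ∀ i, U i ≤ Z)
    (hperm : ∀ g ∈ H, ∃ σ : ι ≃ ι, ∀ i, (U i).map (ρ g) = U (σ i)) (δ : ℕ)
    (hδ : ∀ Y ≤ Z, Y ≠ ⊥ → Invariant ρ H Y → δ ≤ finrank ℂ Y) (v : V) :
    (δ : ℝ) * ∑ i, ‖(U i).starProjection v‖ ^ 2 ≤ (∑ i, (finrank ℂ (U i) : ℝ)) * ‖v‖ ^ 2 := by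
  have hT := frameOp_symmetric U
  set b := hT.eigenvectorBasis (rfl : finrank ℂ V = finrank ℂ V)
  set μ := hT.eigenvalues (rfl : finrank ℂ V = finrank ℂ V)
  have hb : ∀ i, frameOp U (b i) = (μ i : ℂ) • b i := fun i => hT.apply_eigenvectorBasis rfl i
  have hexp : ∑ i, ‖(U i).starProjection v‖ ^ 2 = ∑ i, μ i * ‖⟪b i, v⟫‖ ^ 2 := by
    have h1 : ⟪frameOp U v, v⟫ = ∑ i, ((μ i * ‖⟪b i, v⟫‖ ^ 2 : ℝ) : ℂ) := by
      rw [← b.sum_inner_mul_inner]
      refine Finset.sum_congr rfl fun i _ => ?_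
      rw [hT v (b i), hb, inner_smul_right, Complex.ofReal_mul, mul_assoc]
      congr 1
      rw [← inner_conj_symm (𝕜 := ℂ) v, Complex.ofReal_pow, mul_comm, Complex.mul_conj', ]
    rw [frameOp_inner, ← Complex.ofReal_sum] at h1
    exact Complex.ofReal_inj.mp h1
  have hμ : ∀ i, (δ : ℝ) * μ i ≤ ∑ j, (finrank ℂ (U j) : ℝ) := by
    intro i
    rcases le_or_gt (μ i) 0 with h | h
    · exact le_trans (mul_nonpos_of_nonneg_of_nonpos (Nat.cast_nonneg _) h) (Finset.sum_nonneg fun j _ => Nat.cast_nonneg _)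
    set Y := Module.End.eigenspace (frameOp U) (μ i : ℂ)
    have hYZ : Y ≤ Z := by
      intro w hw
      rw [Module.End.mem_eigenspace_iff] at hw
      have hm : frameOp U w ∈ Z := by
        rw [frameOp_apply]; exact Z.sum_mem fun j _ => hUZ j ((U j).starProjection_apply_mem w)
      rw [hw] at hm
      have := Z.smul_mem ((μ i : ℂ)⁻¹) hm
      rwa [smul_smul, inv_mul_cancel₀ (by exact_mod_cast h.ne'), one_smul] at this
    have hYne : Y ≠ ⊥ := (Submodule.ne_bot_iff _).mpr ⟨b i, Module.End.mem_eigenspace_iff.mpr (hb i), b.orthonormal.ne_zero i⟩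
    have hYinv : Invariant ρ H Y := by
      intro g hg w hw
      obtain ⟨σ, hσ⟩ := hperm g hg
      rw [Module.End.mem_eigenspace_iff] at hw ⊢
      rw [← frameOp_comm U hU σ hσ, hw, map_smul]
    let e := stdOrthonormalBasis ℂ Y
    have he : Orthonormal ℂ (fun j => (e j : V)) := e.orthonormal.comp_linearIsometry Y.subtypeₗᵢ
    have hsum : μ i * finrank ℂ Y = ∑ j, ∑ f, ‖(U f).starProjection (e j : V)‖ ^ 2 := by
      have : ∀ j, ∑ f, ‖(U f).starProjection (e j : V)‖ ^ 2 = μ i := fun j => by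
        have h1 := frameOp_inner U (e j : V)
        rw [Module.End.mem_eigenspace_iff.mp (e j).2, inner_smul_left, Complex.conj_ofReal,
          inner_self_eq_norm_sq_to_K, he.1 j] at h1
        simp only [RCLike.ofReal_one, one_pow, mul_one] at h1
        exact (Complex.ofReal_inj.mp h1).symm
      simp [this, mul_comm]
    calc (δ : ℝ) * μ i ≤ (finrank ℂ Y : ℝ) * μ i :=
          mul_le_mul_of_nonneg_right (by exact_mod_cast hδ Y hYZ hYne hYinv) h.le
      _ ≤ _ := by
          rw [mul_comm, hsum, Finset.sum_comm]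
          exact Finset.sum_le_sum fun f _ => bessel_dim he (U f)
  rw [hexp, Finset.mul_sum, ← b.sum_sq_norm_inner_right v, Finset.mul_sum]
  exact Finset.sum_le_sum fun i _ => by
    rw [← mul_assoc]; exact mul_le_mul_of_nonneg_right (hμ i) (sq_nonneg _)

/-- In an irreducible representation an invariant frame is tight. -/
theorem frame_eq (hU : IsUnitary ρ) [ρ.IsIrreducible] (hperm : ∀ g, ∃ σ : ι ≃ ι, ∀ i, (U i).map (ρ g) = U (σ i))
    (v : V) : (finrank ℂ V : ℝ) * ∑ i, ‖(U i).starProjection v‖ ^ 2 = (∑ i, (finrank ℂ (U i) : ℝ)) * ‖v‖ ^ 2 := by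
  haveI : Nontrivial V := by
    by_contra hn
    rw [not_nontrivial_iff_subsingleton] at hn
    exact (bot_ne_top (α := Subrepresentation ρ)) (Subrepresentation.ext (Submodule.ext fun x => by
      rw [Subsingleton.elim x 0]; simp))
  obtain ⟨c, hc⟩ := Module.End.exists_eigenvalue (frameOp U)
  let S : Subrepresentation ρ :=
    { toSubmodule := Module.End.eigenspace (frameOp U) c
      apply_mem_toSubmodule := fun g w hw => by
        obtain ⟨σ, hσ⟩ := hperm g
        rw [Module.End.mem_eigenspace_iff] at hw ⊢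
        rw [← frameOp_comm U hU σ hσ, hw, map_smul] }
  rcases eq_bot_or_eq_top S with h | h
  · exact absurd (congrArg Subrepresentation.toSubmodule h) hc
  have hall : ∀ w, frameOp U w = c • w := fun w => by
    refine Module.End.mem_eigenspace_iff.mp ?_
    show w ∈ S.toSubmodule
    rw [h]; trivial
  have hnorm : ∀ w : V, ((∑ i, ‖(U i).starProjection w‖ ^ 2 : ℝ) : ℂ) = starRingEnd ℂ c * ((‖w‖ ^ 2 : ℝ) : ℂ) := fun w => by
    rw [← frameOp_inner, hall, inner_smul_left, inner_self_eq_norm_sq_to_K]; push_cast; rfl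
  let b := stdOrthonormalBasis ℂ V
  have htr : ∀ f, ∑ j, ‖(U f).starProjection (b j)‖ ^ 2 = (finrank ℂ (U f) : ℝ) := by
    intro f
    simp only [norm_sq_proj]
    rw [Finset.sum_comm]
    have : ∀ j, ∑ i, ‖⟪((stdOrthonormalBasis ℂ (U f) j : U f) : V), b i⟫‖ ^ 2 = 1 := fun j => by
      rw [b.sum_sq_norm_inner_left]
      rw [show ‖((stdOrthonormalBasis ℂ (U f) j : U f) : V)‖ = 1 from (stdOrthonormalBasis ℂ (U f)).orthonormal.1 j, one_pow]
    simp [this]
  have hsum : ((∑ i, (finrank ℂ (U i) : ℝ) : ℝ) : ℂ) = starRingEnd ℂ c * (finrank ℂ V : ℂ) := by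
    rw [← Finset.sum_congr rfl (fun f _ => htr f), Finset.sum_comm, Complex.ofReal_sum]
    simp only [hnorm, b.orthonormal.1, one_pow, Complex.ofReal_one, mul_one]
    simp [mul_comm]
  apply Complex.ofReal_inj.mp
  rw [Complex.ofReal_mul, Complex.ofReal_mul, hsum, hnorm]
  push_cast
  ring

end frame

end Cfsg.Agent.Lib.KnownA.LS
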