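import Mathlib

/-! Transvections of `SL_n`, pointwise fixators, and moving vectors inside them. -/

set_option autoImplicit false
set_option maxHeartbeats 400000

namespace Cfsg.Agent.Lib.KnownA.LS

open Matrix Module

variable {n : ℕ} {F : Type*} [Field F]

/-- The special linear group. -/
abbrev SLn (n : ℕ) (F : Type*) [Field F] : Type _ := Matrix.SpecialLinearGroup (Fin n) F

/-- The space acted on. -/
abbrev Vec (n : ℕ) (F : Type*) : Type _ := Fin n → F

/-- The natural action. -/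
def act (g : SLn n F) (x : Vec n F) : Vec n F := (g : Matrix (Fin n) (Fin n) F) *ᵥ x

theorem act_one (x : Vec n F) : act (1 : SLn n F) x = x := Matrix.one_mulVec x

theorem act_mul (g h : SLn n F) (x : Vec n F) : act (g * h) x = act g (act h x) :=
  (Matrix.mulVec_mulVec x (g : Matrix (Fin n) (Fin n) F) (h : Matrix (Fin n) (Fin n) F)).symm

@[simp] theorem act_inv_act (g : SLn n F) (x : Vec n F) : act g⁻¹ (act g x) = x := by
  rw [← act_mul, inv_mul_cancel, act_one]

@[simp] theorem act_act_inv (g : SLn n F) (x : Vec n F) : act g (act g⁻¹ x) = x := by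
  rw [← act_mul, mul_inv_cancel, act_one]

theorem act_add (g : SLn n F) (x y : Vec n F) : act g (x + y) = act g x + act g y := Matrix.mulVec_add _ _ _

theorem act_smul (g : SLn n F) (c : F) (x : Vec n F) : act g (c • x) = c • act g x := Matrix.mulVec_smul _ _ _

theorem act_ext {g h : SLn n F} (he : ∀ x, act g x = act h x) : g = h :=
  Subtype.ext (Matrix.ext_of_mulVec_single fun _ => he _)

/-- The action as a linear map. -/
def actL (g : SLn n F) : Vec n F →ₗ[F] Vec n F where
  toFun := act g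
  map_add' := act_add g
  map_smul' := act_smul g

@[simp] theorem actL_apply (g : SLn n F) (x : Vec n F) : actL g x = act g x := rfl

/-- The image of a subspace. -/
def moveS (g : SLn n F) (S : Submodule F (Vec n F)) : Submodule F (Vec n F) := S.map (actL g)

theorem mem_moveS {g : SLn n F} {S : Submodule F (Vec n F)} {x : Vec n F} :
    x ∈ moveS g S ↔ act g⁻¹ x ∈ S := by
  rw [moveS, Submodule.mem_map]
  constructor
  · rintro ⟨y, hy, rfl⟩
    simpa using hy
  · exact fun h => ⟨_, h, by simp⟩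

theorem moveS_one (S : Submodule F (Vec n F)) : moveS (1 : SLn n F) S = S := by
  ext x; simp [mem_moveS, act_one]

theorem moveS_mul (g h : SLn n F) (S : Submodule F (Vec n F)) : moveS (g * h) S = moveS g (moveS h S) := by
  ext x; simp [mem_moveS, act_mul]

theorem moveS_le_moveS (g : SLn n F) {S T : Submodule F (Vec n F)} (h : S ≤ T) : moveS g S ≤ moveS g T :=
  Submodule.map_mono h

theorem finrank_moveS (g : SLn n F) (S : Submodule F (Vec n F)) : finrank F (moveS g S) = finrank F S :=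
  (Submodule.equivMapOfInjective (actL g) (fun x y h => by simpa using congrArg (act g⁻¹) h) S).symm.finrank_eq

theorem moveS_inv_moveS (g : SLn n F) (S : Submodule F (Vec n F)) : moveS g⁻¹ (moveS g S) = S := by
  rw [← moveS_mul, inv_mul_cancel, moveS_one]

theorem moveS_span (g : SLn n F) (s : Set (Vec n F)) :
    moveS g (Submodule.span F s) = Submodule.span F (act g '' s) := Submodule.map_span (actL g) s

/-- The matrix of a transvection. -/
def tvM (a φ : Vec n F) : Matrix (Fin n) (Fin n) F := 1 + Matrix.vecMulVec a φ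

/-- The transvection `x ↦ x + (φ ⬝ x) a`. -/
def tv (a φ : Vec n F) (h : φ ⬝ᵥ a = 0) : SLn n F :=
  ⟨tvM a φ, by rw [tvM, Matrix.vecMulVec_eq Unit, Matrix.det_one_add_replicateCol_mul_replicateRow, h, add_zero]⟩

theorem act_tv (a φ : Vec n F) (h : φ ⬝ᵥ a = 0) (x : Vec n F) : act (tv a φ h) x = x + (φ ⬝ᵥ x) • a := by
  show (1 + Matrix.vecMulVec a φ) *ᵥ x = _
  rw [Matrix.add_mulVec, Matrix.one_mulVec, Matrix.vecMulVec_mulVec]
  simp

theorem tv_mul {a φ ψ : Vec n F} (h : φ ⬝ᵥ a = 0) (h' : ψ ⬝ᵥ a = 0) :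
    tv a φ h * tv a ψ h' = tv a (φ + ψ) (by rw [add_dotProduct, h, h', add_zero]) := by
  refine act_ext fun x => ?_
  rw [act_mul, act_tv, act_tv, act_tv, dotProduct_add, dotProduct_smul, h, smul_zero, add_zero,
    add_dotProduct, add_smul]
  abel

theorem tv_mul_center {a b φ : Vec n F} (h : φ ⬝ᵥ a = 0) (h' : φ ⬝ᵥ b = 0) :
    tv a φ h * tv b φ h' = tv (a + b) φ (by rw [dotProduct_add, h, h', add_zero]) := by
  refine act_ext fun x => ?_
  rw [act_mul, act_tv, act_tv, act_tv, dotProduct_add, dotProduct_smul, h', smul_zero, add_zero, smul_add]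
  abel

theorem tv_zero (a : Vec n F) : tv a 0 (zero_dotProduct a) = 1 :=
  act_ext fun x => by simp [act_tv, act_one]

theorem tv_congr {a φ a' φ' : Vec n F} (ha : a = a') (hφ : φ = φ') (h : φ ⬝ᵥ a = 0) (h' : φ' ⬝ᵥ a' = 0) :
    tv a φ h = tv a' φ' h' := by subst ha hφ; rfl

theorem tv_smul (c : F) (a φ : Vec n F) (h : φ ⬝ᵥ (c • a) = 0) (h' : (c • φ) ⬝ᵥ a = 0) :
    tv (c • a) φ h = tv a (c • φ) h' :=
  act_ext fun x => by simp [act_tv, smul_smul, mul_comm]

/-- Conjugating a transvection. -/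
theorem conj_tv (g : SLn n F) (a φ : Vec n F) (h : φ ⬝ᵥ a = 0) :
    g * tv a φ h * g⁻¹ = tv (act g a) (φ ᵥ* ((g⁻¹ : SLn n F) : Matrix (Fin n) (Fin n) F))
      (by rw [← Matrix.dotProduct_mulVec]; exact (congrArg (φ ⬝ᵥ ·) (act_inv_act g a)).trans h) := by
  refine act_ext fun x => ?_
  rw [act_mul, act_mul, act_tv, act_tv, act_add, act_smul, act_act_inv, ← Matrix.dotProduct_mulVec]
  rfl

theorem vecMul_dot (g : SLn n F) (φ x : Vec n F) :
    (φ ᵥ* (g : Matrix (Fin n) (Fin n) F)) ⬝ᵥ x = φ ⬝ᵥ act g x := (Matrix.dotProduct_mulVec φ _ x).symm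

/-- Commutators of transvections. -/
theorem tv_commutator {a b φ ψ : Vec n F} (hψa : ψ ⬝ᵥ a = 0) (hφb : φ ⬝ᵥ b = 0) (hφa : φ ⬝ᵥ a = 0) :
    tv a ψ hψa * tv b φ hφb * (tv a ψ hψa)⁻¹ * (tv b φ hφb)⁻¹ =
      tv a ((ψ ⬝ᵥ b) • φ) (by rw [smul_dotProduct, hφa, smul_zero]) := by
  have e : tv a ψ hψa * tv b φ hφb =
      tv a ((ψ ⬝ᵥ b) • φ) (by rw [smul_dotProduct, hφa, smul_zero]) * (tv b φ hφb * tv a ψ hψa) := by
    refine act_ext fun x => ?_
    simp only [act_mul, act_tv, dotProduct_add, dotProduct_smul, hψa, hφb, hφa, smul_dotProduct, smul_eq_mul,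
      mul_zero, add_zero, smul_add, smul_smul]
    abel_nf
    simp [add_smul, mul_comm]
  rw [e]; group

/-- Vectors of functionals. -/
def toVec (φ : Vec n F →ₗ[F] F) : Vec n F := fun j => φ (Pi.single j 1)

theorem toVec_dot (φ : Vec n F →ₗ[F] F) (x : Vec n F) : toVec φ ⬝ᵥ x = φ x := by
  conv_rhs => rw [pi_eq_sum_univ' x, map_sum]
  simp [dotProduct, toVec, mul_comm]

/-- The functional of a vector. -/
def ofVec (φ : Vec n F) : Vec n F →ₗ[F] F where
  toFun x := φ ⬝ᵥ x
  map_add' := dotProduct_add φ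
  map_smul' c x := dotProduct_smul c φ x

@[simp] theorem ofVec_apply (φ x : Vec n F) : ofVec φ x = φ ⬝ᵥ x := rfl

/-- A functional killing `W` with value one at `x`. -/
theorem exists_functional {W : Submodule F (Vec n F)} {x : Vec n F} (hx : x ∉ W) :
    ∃ φ : Vec n F, (∀ w ∈ W, φ ⬝ᵥ w = 0) ∧ φ ⬝ᵥ x = 1 := by
  obtain ⟨f, hfx, hf⟩ := Submodule.exists_le_ker_of_notMem hx
  refine ⟨(f x)⁻¹ • toVec f, fun w hw => ?_, ?_⟩
  · rw [smul_dotProduct, toVec_dot, LinearMap.mem_ker.mp (hf hw), smul_zero]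
  · rw [smul_dotProduct, toVec_dot, smul_eq_mul, inv_mul_cancel₀ hfx]

/-- Splitting a functional vanishing on an intersection. -/
theorem split_functional (S T : Submodule F (Vec n F)) (φ : Vec n F) (h : ∀ x ∈ S ⊓ T, φ ⬝ᵥ x = 0) :
    ∃ φ₁ φ₂ : Vec n F, φ = φ₁ + φ₂ ∧ (∀ x ∈ S, φ₁ ⬝ᵥ x = 0) ∧ (∀ x ∈ T, φ₂ ⬝ᵥ x = 0) := by
  have hm : ofVec φ ∈ (S ⊓ T).dualAnnihilator := (Submodule.mem_dualAnnihilator _).mpr h
  rw [Subspace.dualAnnihilator_inf_eq, Submodule.mem_sup] at hm
  obtain ⟨f, hf, g, hg, hfg⟩ := hm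
  refine ⟨toVec f, toVec g, ?_, fun x hx => ?_, fun x hx => ?_⟩
  · refine dotProduct_eq _ _ fun x => ?_
    rw [add_dotProduct, toVec_dot, toVec_dot, ← ofVec_apply φ x, ← hfg, LinearMap.add_apply]
  · rw [toVec_dot]; exact (Submodule.mem_dualAnnihilator _).mp hf x hx
  · rw [toVec_dot]; exact (Submodule.mem_dualAnnihilator _).mp hg x hx

/-- The transvections fixing `S` pointwise. -/
def TK (S : Submodule F (Vec n F)) : Set (SLn n F) :=
  {g | ∃ a φ, ∃ h : φ ⬝ᵥ a = 0, (∀ x ∈ S, φ ⬝ᵥ x = 0) ∧ g = tv a φ h}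

/-- The transvections with centre in `S` fixing `S` pointwise. -/
def TQ (S : Submodule F (Vec n F)) : Set (SLn n F) :=
  {g | ∃ a φ, ∃ h : φ ⬝ᵥ a = 0, a ∈ S ∧ (∀ x ∈ S, φ ⬝ᵥ x = 0) ∧ g = tv a φ h}

theorem TQ_subset_TK (S : Submodule F (Vec n F)) : TQ S ⊆ TK S :=
  fun _ ⟨a, φ, h, _, hS, hg⟩ => ⟨a, φ, h, hS, hg⟩

theorem TK_anti {S T : Submodule F (Vec n F)} (hST : S ≤ T) : TK T ⊆ TK S :=
  fun _ ⟨a, φ, h, hS, hg⟩ => ⟨a, φ, h, fun x hx => hS x (hST hx), hg⟩

theorem conj_mem_TK {S : Submodule F (Vec n F)} (g : SLn n F) {t : SLn n F} (ht : t ∈ TK S) :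
    g * t * g⁻¹ ∈ TK (moveS g S) := by
  obtain ⟨a, φ, h, hS, rfl⟩ := ht
  refine ⟨_, _, _, fun x hx => ?_, conj_tv g a φ h⟩
  rw [vecMul_dot]
  exact hS _ (mem_moveS.mp hx)

theorem conj_mem_TQ {S : Submodule F (Vec n F)} (g : SLn n F) {t : SLn n F} (ht : t ∈ TQ S) :
    g * t * g⁻¹ ∈ TQ (moveS g S) := by
  obtain ⟨a, φ, h, ha, hS, rfl⟩ := ht
  refine ⟨_, _, _, ?_, fun x hx => ?_, conj_tv g a φ h⟩
  · exact mem_moveS.mpr (by simpa using ha)
  · rw [vecMul_dot]
    exact hS _ (mem_moveS.mp hx)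

/-- The subgroup generated by the transvections fixing `S` pointwise. -/
def FX (S : Submodule F (Vec n F)) : Subgroup (SLn n F) := Subgroup.closure (TK S)

theorem FX_fix {S : Submodule F (Vec n F)} {g : SLn n F} (hg : g ∈ FX S) : ∀ x ∈ S, act g x = x := by
  induction hg using Subgroup.closure_induction with
  | mem t ht =>
    obtain ⟨a, φ, h, hS, rfl⟩ := ht
    intro x hx
    rw [act_tv, hS x hx, zero_smul, add_zero]
  | one => exact fun x _ => act_one x
  | mul a b _ _ ha hb => intro x hx; rw [act_mul, hb x hx, ha x hx]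
  | inv a _ ha => intro x hx; conv_lhs => rw [← ha x hx, act_inv_act]

theorem exists_not_mem_two {S T : Submodule F (Vec n F)} (hS : S ≠ ⊤) (hT : T ≠ ⊤) : ∃ z, z ∉ S ∧ z ∉ T := by
  obtain ⟨a, -, ha⟩ := SetLike.exists_of_lt hS.lt_top
  obtain ⟨b, -, hb⟩ := SetLike.exists_of_lt hT.lt_top
  by_cases haT : a ∈ T
  · by_cases hbS : b ∈ S
    · exact ⟨a + b, fun h => ha (by simpa using S.sub_mem h hbS), fun h => hb (by simpa using T.sub_mem h haT)⟩
    · exact ⟨b, hbS, hb⟩
  · exact ⟨a, ha, haT⟩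

/-- One transvection moving `x` to `y`. -/
theorem exists_tv_move {S : Submodule F (Vec n F)} {x y : Vec n F}
    (h : x ∉ S ⊔ Submodule.span F {y - x}) : ∃ t ∈ FX S, act t x = y := by
  obtain ⟨φ, hφ, hφx⟩ := exists_functional h
  have h0 : φ ⬝ᵥ (y - x) = 0 := hφ _ (Submodule.mem_sup_right (Submodule.mem_span_singleton_self _))
  refine ⟨tv (y - x) φ h0, Subgroup.subset_closure ⟨_, _, h0, fun w hw => hφ w (Submodule.mem_sup_left hw), rfl⟩, ?_⟩
  rw [act_tv, hφx, one_smul, add_sub_cancel]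

/-- Moving a vector by elements fixing `S` pointwise. -/
theorem exists_move {S : Submodule F (Vec n F)} {x y : Vec n F} (hx : x ∉ S) (hy : y ∉ S)
    (hSx : S ⊔ Submodule.span F {x} ≠ ⊤) : ∃ t ∈ FX S, act t x = y := by
  have hSy : S ⊔ Submodule.span F {y} ≠ ⊤ := by
    intro h
    apply hSx
    have h1 := Submodule.finrank_sup_span_singleton (K := F) (p := S) hx
    have h2 := Submodule.finrank_sup_span_singleton (K := F) (p := S) hy
    apply Submodule.eq_top_of_finrank_eq
    rw [h1, ← h2, h, finrank_top]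
  obtain ⟨z, hz1, hz2⟩ := exists_not_mem_two hSx hSy
  have key : ∀ u w : Vec n F, u ∉ S → w ∉ S ⊔ Submodule.span F {u} → u ∉ S ⊔ Submodule.span F {w - u} := by
    intro u w hu hw hmem
    obtain ⟨s, hs, v, hv, hsv⟩ := Submodule.mem_sup.mp hmem
    obtain ⟨c, rfl⟩ := Submodule.mem_span_singleton.mp hv
    rcases eq_or_ne c 0 with rfl | hc
    · rw [zero_smul, add_zero] at hsv; exact hu (hsv ▸ hs)
    apply hw
    have e : w = c⁻¹ • (-s) + (c⁻¹ + 1) • u := by
      apply smul_right_injective (Vec n F) hc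
      simp only [smul_add, smul_smul, mul_add, mul_inv_cancel₀ hc, mul_one, one_smul, smul_neg]
      rw [add_smul, one_smul]
      have h' : c • w = -s + u + c • u := by linear_combination (norm := module) hsv
      rw [h']; abel
    rw [e]
    exact Submodule.add_mem _ (Submodule.mem_sup_left (S.smul_mem _ (S.neg_mem hs)))
      (Submodule.mem_sup_right (Submodule.smul_mem _ _ (Submodule.mem_span_singleton_self u)))
  obtain ⟨t₁, ht₁, e₁⟩ := exists_tv_move (key x z hx hz1)
  have hzS : z ∉ S := fun h => hz1 (Submodule.mem_sup_left h)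
  have hyz : y ∉ S ⊔ Submodule.span F {z} := fun h => by
    obtain ⟨s, hs, v, hv, hsv⟩ := Submodule.mem_sup.mp h
    obtain ⟨c, rfl⟩ := Submodule.mem_span_singleton.mp hv
    rcases eq_or_ne c 0 with rfl | hc
    · rw [zero_smul, add_zero] at hsv; exact hy (hsv ▸ hs)
    apply hz2
    rw [show z = c⁻¹ • (y - s) by rw [← hsv, add_sub_cancel_left, inv_smul_smul₀ hc]]
    exact Submodule.smul_mem _ _ (Submodule.sub_mem _ (Submodule.mem_sup_right (Submodule.mem_span_singleton_self y))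
      (Submodule.mem_sup_left hs))
  obtain ⟨t₂, ht₂, e₂⟩ := exists_tv_move (key z y hzS hyz)
  exact ⟨t₂ * t₁, mul_mem ht₂ ht₁, by rw [act_mul, e₁, e₂]⟩

/-- The pointwise fixator of a subspace is generated by its transvections. -/
theorem mem_FX : ∀ (d : ℕ) (S : Submodule F (Vec n F)), n - finrank F S = d →
    ∀ g : SLn n F, (∀ x ∈ S, act g x = x) → g ∈ FX S := by
  intro d
  induction d with
  | zero =>
    intro S hd g hg
    have hn := Submodule.finrank_le S
    rw [finrank_fin_fun] at hn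
    have hS : S = ⊤ := Submodule.eq_top_of_finrank_eq (by rw [finrank_fin_fun]; omega)
    have : g = 1 := act_ext fun x => by rw [hg x (hS ▸ Submodule.mem_top), act_one]
    rw [this]; exact one_mem _
  | succ d ih =>
    intro S hd g hg
    have hS : S ≠ ⊤ := fun h => by rw [h, finrank_top, finrank_fin_fun] at hd; omega
    obtain ⟨x, -, hx⟩ := SetLike.exists_of_lt hS.lt_top
    have hfr := Submodule.finrank_sup_span_singleton (K := F) (p := S) hx
    by_cases hSx : S ⊔ Submodule.span F {x} = ⊤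
    · obtain ⟨φ, hφ, hφx⟩ := exists_functional hx
      have he : (g : Matrix (Fin n) (Fin n) F) = tvM (act g x - x) φ := by
        refine Matrix.ext_of_mulVec_single fun j => ?_
        obtain ⟨s, hs, v, hv, hsv⟩ := Submodule.mem_sup.mp (hSx ▸ Submodule.mem_top :
          (Pi.single j 1 : Vec n F) ∈ S ⊔ Submodule.span F {x})
        obtain ⟨c, rfl⟩ := Submodule.mem_span_singleton.mp hv
        show act g _ = (1 + Matrix.vecMulVec (act g x - x) φ) *ᵥ _
        rw [Matrix.add_mulVec, Matrix.one_mulVec, Matrix.vecMulVec_mulVec, ← hsv, act_add, act_smul, hg s hs,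
          dotProduct_add, dotProduct_smul, hφ s hs, hφx]
        simp [smul_sub]
      have h0 : φ ⬝ᵥ (act g x - x) = 0 := by
        have hdet : (g : Matrix (Fin n) (Fin n) F).det = 1 := g.2
        rw [he, tvM, Matrix.vecMulVec_eq Unit, Matrix.det_one_add_replicateCol_mul_replicateRow] at hdet
        simpa using hdet
      exact Subgroup.subset_closure ⟨_, _, h0, hφ, Subtype.ext he⟩
    · have hgx : act g x ∉ S := fun h => hx (by
        have := hg _ h
        have h' := congrArg (act g⁻¹) this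
        rw [act_inv_act, act_inv_act] at h'
        exact h' ▸ h)
      obtain ⟨t, ht, hte⟩ := exists_move hgx hx (fun h => hSx (Submodule.eq_top_of_finrank_eq (by
        have := Submodule.finrank_sup_span_singleton (K := F) (p := S) hgx
        rw [h, finrank_top] at this; omega)))
      have hfix : ∀ y ∈ S ⊔ Submodule.span F {x}, act (t * g) y = y := by
        intro y hy
        obtain ⟨s, hs, v, hv, rfl⟩ := Submodule.mem_sup.mp hy
        obtain ⟨c, rfl⟩ := Submodule.mem_span_singleton.mp hv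
        rw [act_mul, act_add, act_smul, hg s hs, act_add, act_smul, FX_fix ht s hs, hte]
      have h := ih (S ⊔ Submodule.span F {x}) (by omega) (t * g) hfix
      have h' : t * g ∈ FX S := Subgroup.closure_mono (TK_anti le_sup_left) h
      simpa using mul_mem (inv_mem ht) h'

theorem mem_FX_iff {S : Submodule F (Vec n F)} {g : SLn n F} : g ∈ FX S ↔ ∀ x ∈ S, act g x = x :=
  ⟨FX_fix, mem_FX _ S rfl g⟩

end Cfsg.Agent.Lib.KnownA.LS
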