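import Mathlib
import Cfsg.Agent.Lib.KnownA.LS.Setup

/-! Points, lines and flags: transitivity and counting. -/

set_option autoImplicit false
set_option maxHeartbeats 400000

namespace Cfsg.Agent.Lib.KnownA.LS

open Matrix Module

variable {n : ℕ} {F : Type*} [Field F]

theorem exists_point_vec {p : Submodule F (Vec n F)} (hp : finrank F p = 1) :
    ∃ x, x ≠ 0 ∧ p = Submodule.span F {x} := by
  obtain ⟨x, hx, hx0⟩ := p.exists_mem_ne_zero_of_ne_bot (fun h => by rw [h, finrank_bot] at hp; omega)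
  refine ⟨x, hx0, (Submodule.eq_of_le_of_finrank_eq ((Submodule.span_singleton_le_iff_mem x p).mpr hx) ?_).symm⟩
  rw [finrank_span_singleton hx0, hp]

theorem sup_span_eq {P S : Submodule F (Vec n F)} {x : Vec n F} (hPS : P ≤ S) (hx : x ∈ S) (hxP : x ∉ P)
    (hS : finrank F S = finrank F P + 1) : P ⊔ Submodule.span F {x} = S := by
  refine Submodule.eq_of_le_of_finrank_eq (sup_le hPS ((Submodule.span_singleton_le_iff_mem x S).mpr hx)) ?_
  rw [Submodule.finrank_sup_span_singleton hxP, hS]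

theorem exists_flag_vec {p l : Submodule F (Vec n F)} (hp : finrank F p = 1) (hl : finrank F l = 2) (hpl : p ≤ l) :
    ∃ x y, x ≠ 0 ∧ p = Submodule.span F {x} ∧ y ∉ p ∧ l = p ⊔ Submodule.span F {y} := by
  obtain ⟨x, hx0, hpx⟩ := exists_point_vec hp
  obtain ⟨y, hyl, hyp⟩ := SetLike.exists_of_lt (lt_of_le_of_ne hpl (fun h => by rw [h, hl] at hp; omega))
  exact ⟨x, y, hx0, hpx, hyp, (sup_span_eq hpl hyl hyp (by omega)).symm⟩

theorem exists_point_le {l : Submodule F (Vec n F)} (hl : finrank F l = 2) :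
    ∃ p : Submodule F (Vec n F), finrank F p = 1 ∧ p ≤ l := by
  obtain ⟨x, hx, hx0⟩ := l.exists_mem_ne_zero_of_ne_bot (fun h => by rw [h, finrank_bot] at hl; omega)
  exact ⟨_, finrank_span_singleton hx0, (Submodule.span_singleton_le_iff_mem x l).mpr hx⟩

theorem ne_top_of_finrank_lt {S : Submodule F (Vec n F)} (h : finrank F S < n) : S ≠ ⊤ := fun e => by
  rw [e, finrank_top, finrank_fin_fun] at h; omega

theorem exists_map_flag (hn : 3 ≤ n) {p l p' l' : Submodule F (Vec n F)} (hp : finrank F p = 1)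
    (hl : finrank F l = 2) (hpl : p ≤ l) (hp' : finrank F p' = 1) (hl' : finrank F l' = 2) (hpl' : p' ≤ l') :
    ∃ g : SLn n F, moveS g p = p' ∧ moveS g l = l' := by
  obtain ⟨x, y, hx0, hpx, hyp, hly⟩ := exists_flag_vec hp hl hpl
  obtain ⟨x', y', hx0', hpx', hyp', hly'⟩ := exists_flag_vec hp' hl' hpl'
  obtain ⟨g₁, -, hg₁⟩ := exists_move (S := (⊥ : Submodule F (Vec n F))) (x := x) (y := x') (by simpa using hx0)
    (by simpa using hx0') (by
      rw [bot_sup_eq, ← hpx]; exact ne_top_of_finrank_lt (by omega))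
  have hg₁p : moveS g₁ p = p' := by rw [hpx, hpx', moveS_span, Set.image_singleton, hg₁]
  have hy1 : act g₁ y ∉ p' := fun h => hyp (by
    rw [← hg₁p] at h; simpa [mem_moveS] using h)
  obtain ⟨g₂, hg₂, hg₂y⟩ := exists_move hy1 hyp' (by
    refine ne_top_of_finrank_lt ?_
    rw [Submodule.finrank_sup_span_singleton hy1]; omega)
  have hg₂p : moveS g₂ p' = p' := by
    ext v
    rw [mem_moveS]
    constructor
    · intro h
      have := FX_fix hg₂ _ h
      rw [act_act_inv] at this
      rwa [this]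
    · intro h
      have := FX_fix (inv_mem hg₂) _ h
      rwa [this]
  refine ⟨g₂ * g₁, by rw [moveS_mul, hg₁p, hg₂p], ?_⟩
  rw [hly, hly', moveS_mul, moveS, moveS, Submodule.map_sup, Submodule.map_sup]
  change moveS g₂ (moveS g₁ p) ⊔ moveS g₂ (moveS g₁ (Submodule.span F {y})) = _
  rw [hg₁p, hg₂p, moveS_span, moveS_span, Set.image_singleton, Set.image_singleton, hg₂y]

theorem exists_map_line (hn : 3 ≤ n) {l l' : Submodule F (Vec n F)} (hl : finrank F l = 2) (hl' : finrank F l' = 2) :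
    ∃ g : SLn n F, moveS g l = l' := by
  obtain ⟨p, hp, hpl⟩ := exists_point_le hl
  obtain ⟨p', hp', hpl'⟩ := exists_point_le hl'
  obtain ⟨g, -, hg⟩ := exists_map_flag hn hp hl hpl hp' hl' hpl'
  exact ⟨g, hg⟩

variable [Fintype F]

theorem card_submodule (S : Submodule F (Vec n F)) : Nat.card S = Fintype.card F ^ finrank F S := by
  rw [Module.natCard_eq_pow_finrank (K := F), Nat.card_eq_fintype_card]

theorem card_sdiff_submodule {P S : Submodule F (Vec n F)} (h : P ≤ S) :
    Nat.card {x : Vec n F // x ∈ S ∧ x ∉ P} = Fintype.card F ^ finrank F S - Fintype.card F ^ finrank F P := by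
  rw [show Nat.card {x : Vec n F // x ∈ S ∧ x ∉ P} = ((S : Set (Vec n F)) \ (P : Set (Vec n F))).ncard from
    (Nat.card_coe_set_eq _), Set.ncard_diff h, ← Nat.card_coe_set_eq, ← Nat.card_coe_set_eq]
  exact congrArg₂ (· - ·) (card_submodule S) (card_submodule P)

/-- Counting the subspaces one dimension above `P` inside `U`. -/
theorem card_covers {P U : Submodule F (Vec n F)} (hPU : P ≤ U) {d : ℕ} (hd : finrank F P = d) :
    Nat.card {S : Submodule F (Vec n F) // P ≤ S ∧ S ≤ U ∧ finrank F S = d + 1} *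
      (Fintype.card F ^ (d + 1) - Fintype.card F ^ d) = Fintype.card F ^ finrank F U - Fintype.card F ^ d := by
  classical
  let f : {x : Vec n F // x ∈ U ∧ x ∉ P} → {S : Submodule F (Vec n F) // P ≤ S ∧ S ≤ U ∧ finrank F S = d + 1} :=
    fun x => ⟨P ⊔ Submodule.span F {x.1}, le_sup_left,
      sup_le hPU ((Submodule.span_singleton_le_iff_mem _ U).mpr x.2.1),
      by rw [Submodule.finrank_sup_span_singleton x.2.2, hd]⟩
  have hfib : ∀ S, Nat.card {x // f x = S} = Fintype.card F ^ (d + 1) - Fintype.card F ^ d := by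
    rintro ⟨S, hPS, hSU, hS⟩
    refine Eq.trans ?_ (by rw [card_sdiff_submodule hPS, hS, hd] :
      Nat.card {x : Vec n F // x ∈ S ∧ x ∉ P} = Fintype.card F ^ (d + 1) - Fintype.card F ^ d)
    refine Nat.card_congr ⟨fun x => ⟨x.1.1, ?_, x.1.2.2⟩, fun x => ⟨⟨x.1, hSU x.2.1, x.2.2⟩, ?_⟩, fun _ => rfl, fun _ => rfl⟩
    · have := congrArg Subtype.val x.2
      change P ⊔ Submodule.span F {x.1.1} = S at this
      exact this.le (Submodule.mem_sup_right (Submodule.mem_span_singleton_self _))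
    · exact Subtype.ext (sup_span_eq hPS x.2.1 x.2.2 (by rw [hS, hd]))
  have h := Nat.card_congr (Equiv.sigmaFiberEquiv f)
  haveI := Fintype.ofFinite {S : Submodule F (Vec n F) // P ≤ S ∧ S ≤ U ∧ finrank F S = d + 1}
  rw [Nat.card_sigma, Finset.sum_congr rfl (fun S _ => hfib S), Finset.sum_const, Finset.card_univ, smul_eq_mul,
    ← Nat.card_eq_fintype_card, card_sdiff_submodule hPU, hd] at h
  exact h

end Cfsg.Agent.Lib.KnownA.LS
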