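import Mathlib
import Cfsg.Agent.Lib.KnownA.LS.Setup
import Cfsg.Agent.Lib.KnownA.LS.Frames
import Cfsg.Agent.Lib.KnownA.LS.Geometry

/-! Fixed spaces of point and line fixators in unitary representations of `SL_n`. -/

set_option autoImplicit false
set_option maxHeartbeats 400000

namespace Cfsg.Agent.Lib.KnownA.LS

open Module
open scoped ComplexInnerProductSpace

set_option linter.unusedSectionVars false

noncomputable section

variable {n : ℕ} {F : Type*} [Field F] {V : Type*} [NormedAddCommGroup V] [InnerProductSpace ℂ V]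
  [FiniteDimensional ℂ V] (ρ : Representation ℂ (SLn n F) V)

/-- Vectors fixed by the transvections fixing `S` pointwise. -/
abbrev Wsp (S : Submodule F (Vec n F)) : Submodule ℂ V := fixedSp ρ (TK S)

/-- Vectors fixed by the transvections with centre in `S` fixing `S`. -/
abbrev Csp (S : Submodule F (Vec n F)) : Submodule ℂ V := fixedSp ρ (TQ S)

/-- The union of the `TQ` of the points of `S`. -/
def TQpts (S : Submodule F (Vec n F)) : Set (SLn n F) :=
  {g | ∃ p : Submodule F (Vec n F), finrank F p = 1 ∧ p ≤ S ∧ g ∈ TQ p}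

/-- The common fixed vectors on a line. -/
abbrev W0sp (l : Submodule F (Vec n F)) : Submodule ℂ V := Wsp ρ l ⊓ fixedSp ρ (TQpts l)

/-- The part attached to a flag. -/
abbrev E1 (p l : Submodule F (Vec n F)) : Submodule ℂ V := Wsp ρ l ⊓ Csp ρ p ⊓ (W0sp ρ l)ᗮ

variable {ρ}

omit [FiniteDimensional ℂ V] in
theorem map_Wsp (g : SLn n F) (S : Submodule F (Vec n F)) : (Wsp ρ S).map (ρ g) = Wsp ρ (moveS g S) :=
  fixedSp_map g (fun _ h => conj_mem_TK g h)
    (fun x h => by simpa [moveS_inv_moveS] using conj_mem_TK g⁻¹ h)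

omit [FiniteDimensional ℂ V] in
theorem map_Csp (g : SLn n F) (S : Submodule F (Vec n F)) : (Csp ρ S).map (ρ g) = Csp ρ (moveS g S) :=
  fixedSp_map g (fun _ h => conj_mem_TQ g h)
    (fun x h => by simpa [moveS_inv_moveS] using conj_mem_TQ g⁻¹ h)

theorem conj_mem_TQpts {S : Submodule F (Vec n F)} (g : SLn n F) {x : SLn n F} (h : x ∈ TQpts S) :
    g * x * g⁻¹ ∈ TQpts (moveS g S) := by
  obtain ⟨p, hp, hpS, hx⟩ := h
  exact ⟨moveS g p, by rw [finrank_moveS, hp], moveS_le_moveS g hpS, conj_mem_TQ g hx⟩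

omit [FiniteDimensional ℂ V] in
theorem map_W0sp (g : SLn n F) (S : Submodule F (Vec n F)) : (W0sp ρ S).map (ρ g) = W0sp ρ (moveS g S) := by
  rw [map_inf', map_Wsp]
  congr 1
  exact fixedSp_map g (fun _ h => conj_mem_TQpts g h)
    (fun x h => by simpa [moveS_inv_moveS] using conj_mem_TQpts g⁻¹ h)

theorem map_E1 (hU : IsUnitary ρ) (g : SLn n F) (p l : Submodule F (Vec n F)) :
    (E1 ρ p l).map (ρ g) = E1 ρ (moveS g p) (moveS g l) := by
  rw [map_inf', map_inf', map_orthogonal hU, map_Wsp, map_Csp, map_W0sp]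

/-- The projection on `W l` of a vector of `W l'` is fixed by `TQ p`. -/
theorem proj_mem_Csp (hU : IsUnitary ρ) {l l' p : Submodule F (Vec n F)} (hpl : p ≤ l) (hint : l ⊓ l' ≤ p)
    {x : V} (hx : x ∈ Wsp ρ l') : (Wsp ρ l).starProjection x ∈ Csp ρ p := by
  rintro t ⟨a, φ, h, ha, hφ, rfl⟩
  obtain ⟨φ₁, φ₂, he, h₁, h₂⟩ := split_functional l' l φ (fun y hy => hφ y (hint (by rwa [inf_comm])))
  have ha2 : φ₂ ⬝ᵥ a = 0 := h₂ a (hpl ha)
  have ha1 : φ₁ ⬝ᵥ a = 0 := by rw [he, add_dotProduct, ha2, add_zero] at h; exact h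
  have e : tv a φ h = tv a φ₂ ha2 * tv a φ₁ ha1 := by
    rw [tv_mul]; exact tv_congr rfl (by rw [he, add_comm]) _ _
  have hmove : moveS (tv a φ₁ ha1) l = l := by
    ext y
    rw [mem_moveS]
    constructor
    · intro hy
      have e' := act_tv a φ₁ ha1 (act (tv a φ₁ ha1)⁻¹ y)
      rw [act_act_inv] at e'
      rw [e']
      exact l.add_mem hy (l.smul_mem _ (hpl ha))
    · intro hy
      have e' := act_act_inv (tv a φ₁ ha1) y
      rw [act_tv] at e'
      rw [eq_sub_of_add_eq e']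
      exact l.sub_mem hy (l.smul_mem _ (hpl ha))
  rw [e, map_mul, Module.End.mul_apply]
  rw [map_starProjection hU (tv a φ₁ ha1) (by rw [map_Wsp, hmove]) x, hx _ ⟨a, φ₁, ha1, h₁, rfl⟩]
  have hm : (Wsp ρ l).starProjection x ∈ Wsp ρ l := (Wsp ρ l).starProjection_apply_mem x
  exact hm _ ⟨a, φ₂, ha2, h₂, rfl⟩

/-- Inner products between `W1 l` and `W l'` factor through `E1 r l`. -/
theorem inner_W1 (hU : IsUnitary ρ) {l l' r : Submodule F (Vec n F)} (hr : finrank F r = 1) (hrl : r ≤ l)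
    (hint : l ⊓ l' ≤ r) {x z : V} (hx : x ∈ Wsp ρ l') (hz : z ∈ Wsp ρ l) (hz' : z ∈ (W0sp ρ l)ᗮ) :
    ⟪z, x⟫ = ⟪z, (E1 ρ r l).starProjection x⟫ := by
  set u := (Wsp ρ l).starProjection x with hu
  set w1 := u - (W0sp ρ l).starProjection u with hw1
  have hw0C : W0sp ρ l ≤ Csp ρ r := fun v hv g hg => hv.2 g ⟨r, hr, hrl, hg⟩
  have hw1E : w1 ∈ E1 ρ r l :=
    ⟨⟨Submodule.sub_mem _ ((Wsp ρ l).starProjection_apply_mem x) ((W0sp ρ l).starProjection_apply_mem u).1,
      Submodule.sub_mem _ (proj_mem_Csp hU hrl hint hx) (hw0C ((W0sp ρ l).starProjection_apply_mem u))⟩,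
      Submodule.sub_starProjection_mem_orthogonal u⟩
  have key : ∀ y : V, y ∈ Wsp ρ l → y ∈ (W0sp ρ l)ᗮ → ⟪y, x⟫ = ⟪y, w1⟫ := fun y hy hy' => by
    rw [inner_eq_inner_proj (Wsp ρ l) hy, ← hu, hw1, inner_sub_right,
      Submodule.inner_left_of_mem_orthogonal ((W0sp ρ l).starProjection_apply_mem u) hy', sub_zero]
  have hP : (E1 ρ r l).starProjection x = w1 := by
    refine Submodule.eq_starProjection_of_mem_of_inner_eq_zero hw1E fun y hy => ?_
    rw [inner_sub_left, ← inner_conj_symm x y, ← inner_conj_symm w1 y, key y hy.1.1 hy.2, sub_self]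
  rw [hP, key z hz hz']

/-- Skew lines give orthogonal parts. -/
theorem inner_W1_skew (hU : IsUnitary ρ) {l l' : Submodule F (Vec n F)} (hint : l ⊓ l' = ⊥) {x z : V}
    (hx : x ∈ Wsp ρ l') (hz : z ∈ Wsp ρ l) (hz' : z ∈ (W0sp ρ l)ᗮ) : ⟪z, x⟫ = 0 := by
  rw [inner_eq_inner_proj (Wsp ρ l) hz]
  refine Submodule.inner_left_of_mem_orthogonal (K := W0sp ρ l)
    (Submodule.mem_inf.mpr ⟨(Wsp ρ l).starProjection_apply_mem x, ?_⟩) hz'
  rintro g ⟨p, hp, hpl, hg⟩
  exact proj_mem_Csp hU hpl (hint.le.trans bot_le) hx g hg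

theorem finrank_inf_le_one {l l' : Submodule F (Vec n F)} (hl : finrank F l = 2) (hl' : finrank F l' = 2)
    (hne : l ≠ l') : l ⊓ l' = ⊥ ∨ finrank F (l ⊓ l' : Submodule F (Vec n F)) = 1 := by
  by_cases h : l ⊓ l' = ⊥
  · exact Or.inl h
  · refine Or.inr ?_
    have h1 : finrank F (l ⊓ l' : Submodule F (Vec n F)) ≠ 0 := fun e => h (Submodule.finrank_eq_zero.mp e)
    have h2 : finrank F (l ⊓ l' : Submodule F (Vec n F)) < 2 := by
      by_contra h2
      have h3 : l ⊓ l' = l := Submodule.eq_of_le_of_finrank_le inf_le_left (by omega)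
      exact hne (Submodule.eq_of_le_of_finrank_eq (h3 ▸ inf_le_right) (by omega))
    omega

/-- Points. -/
abbrev Pt (n : ℕ) (F : Type*) [Field F] : Type _ := {p : Submodule F (Vec n F) // finrank F p = 1}

/-- Lines. -/
abbrev Ln (n : ℕ) (F : Type*) [Field F] : Type _ := {l : Submodule F (Vec n F) // finrank F l = 2}

/-- Flags. -/
abbrev Flag (n : ℕ) (F : Type*) [Field F] : Type _ :=
  {f : Submodule F (Vec n F) × Submodule F (Vec n F) // finrank F f.1 = 1 ∧ finrank F f.2 = 2 ∧ f.1 ≤ f.2}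

section finite

variable [Fintype F]

theorem pow_sub_pow (q a : ℕ) : q ^ (a + 1) - q ^ a = q ^ a * (q - 1) := by
  rw [pow_succ, Nat.mul_sub, mul_one]

theorem card_Pt (n : ℕ) : Nat.card (Pt n F) * (Fintype.card F - 1) = Fintype.card F ^ n - 1 := by
  have h := card_covers (F := F) (n := n) (P := ⊥) (U := ⊤) bot_le (d := 0) (by simp)
  rw [finrank_top, finrank_fin_fun] at h
  simp only [zero_add, pow_one, pow_zero] at h
  rw [← h]
  congr 1
  exact Nat.card_congr (Equiv.subtypeEquivRight fun p => by simp)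

theorem card_PtsOn {l : Submodule F (Vec n F)} (hl : finrank F l = 2) :
    Nat.card {p : Submodule F (Vec n F) // finrank F p = 1 ∧ p ≤ l} = Fintype.card F + 1 := by
  have h := card_covers (F := F) (n := n) (P := ⊥) (U := l) bot_le (d := 0) (by simp)
  rw [hl] at h
  simp only [zero_add, pow_one, pow_zero] at h
  have hq : 1 < Fintype.card F := Fintype.one_lt_card
  refine Nat.eq_of_mul_eq_mul_right (Nat.sub_pos_of_lt hq) ?_
  rw [Nat.card_congr (Equiv.subtypeEquivRight (q := fun p => ⊥ ≤ p ∧ p ≤ l ∧ finrank F p = 1) fun p => by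
    simp [and_comm]), h, ← Nat.sq_sub_sq, one_pow]

theorem card_LinesThru {p : Submodule F (Vec n F)} (hn : 1 ≤ n) (hp : finrank F p = 1) :
    Nat.card {l : Submodule F (Vec n F) // finrank F l = 2 ∧ p ≤ l} * (Fintype.card F - 1) =
      Fintype.card F ^ (n - 1) - 1 := by
  have h := card_covers (F := F) (n := n) (P := p) (U := ⊤) le_top (d := 1) hp
  rw [finrank_top, finrank_fin_fun, pow_sub_pow, pow_one] at h
  rw [Nat.card_congr (Equiv.subtypeEquivRight (q := fun l => p ≤ l ∧ l ≤ ⊤ ∧ finrank F l = 1 + 1) fun l => by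
    simp [and_comm])]
  refine Nat.eq_of_mul_eq_mul_left (Fintype.card_pos (α := F)) ?_
  rw [show Fintype.card F * (Fintype.card F ^ (n - 1) - 1) = Fintype.card F ^ n - Fintype.card F by
    rw [Nat.mul_sub, mul_one, ← pow_succ', Nat.sub_add_cancel hn], ← h]
  ring

theorem card_Flag_pt (hn : 1 ≤ n) :
    Nat.card (Flag n F) * (Fintype.card F - 1) = Nat.card (Pt n F) * (Fintype.card F ^ (n - 1) - 1) := by
  classical
  have e : Flag n F ≃ Σ p : Pt n F, {l : Submodule F (Vec n F) // finrank F l = 2 ∧ p.1 ≤ l} :=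
    { toFun := fun f => ⟨⟨f.1.1, f.2.1⟩, ⟨f.1.2, f.2.2.1, f.2.2.2⟩⟩
      invFun := fun f => ⟨(f.1.1, f.2.1), f.1.2, f.2.2.1, f.2.2.2⟩
      left_inv := fun _ => rfl
      right_inv := fun _ => rfl }
  haveI := Fintype.ofFinite (Pt n F)
  rw [Nat.card_congr e, Nat.card_sigma, Finset.sum_mul, Finset.sum_congr rfl (fun p _ => card_LinesThru hn p.2),
    Finset.sum_const, Finset.card_univ, smul_eq_mul, Nat.card_eq_fintype_card]

theorem card_Flag_line : Nat.card (Flag n F) = Nat.card (Ln n F) * (Fintype.card F + 1) := by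
  classical
  have e : Flag n F ≃ Σ l : Ln n F, {p : Submodule F (Vec n F) // finrank F p = 1 ∧ p ≤ l.1} :=
    { toFun := fun f => ⟨⟨f.1.2, f.2.2.1⟩, ⟨f.1.1, f.2.1, f.2.2.2⟩⟩
      invFun := fun f => ⟨(f.2.1, f.1.1), f.2.2.1, f.1.2, f.2.2.2⟩
      left_inv := fun _ => rfl
      right_inv := fun _ => rfl }
  haveI := Fintype.ofFinite (Ln n F)
  rw [Nat.card_congr e, Nat.card_sigma, Finset.sum_congr rfl (fun l _ => card_PtsOn l.2),
    Finset.sum_const, Finset.card_univ, smul_eq_mul, Nat.card_eq_fintype_card]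

/-- If no flag part is present, there are at least as many dimensions as lines. -/
theorem engine (hn : 3 ≤ n) (hU : IsUnitary ρ) {l₀ : Submodule F (Vec n F)} (hl₀ : finrank F l₀ = 2)
    (hlt : W0sp ρ l₀ ≠ Wsp ρ l₀) :
    Nat.card (Ln n F) ≤ finrank ℂ V ∨ ∃ f : Flag n F, E1 ρ f.1.1 f.1.2 ≠ ⊥ := by
  classical
  by_cases h : ∃ f : Flag n F, E1 ρ f.1.1 f.1.2 ≠ ⊥
  · exact Or.inr h
  left
  push_neg at h
  haveI := Fintype.ofFinite (Ln n F)
  let U : Ln n F → Submodule ℂ V := fun l => Wsp ρ l.1 ⊓ (W0sp ρ l.1)ᗮ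
  have horth : ∀ i j, i ≠ j → ∀ x ∈ U i, ∀ y ∈ U j, ⟪x, y⟫ = 0 := by
    intro i j hij x hx y hy
    rcases finrank_inf_le_one i.2 j.2 (fun e => hij (Subtype.ext e)) with h0 | h1
    · exact inner_W1_skew hU h0 hy.1 hx.1 hx.2
    · rw [inner_W1 hU h1 inf_le_left le_rfl hy.1 hx.1 hx.2, (Submodule.eq_bot_iff _).mp
        (h ⟨(i.1 ⊓ j.1, i.1), h1, i.2, inf_le_left⟩) _ (Submodule.starProjection_apply_mem _ y)]
      exact inner_zero_right x
  have hpos : ∀ l, 1 ≤ finrank ℂ (U l) := by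
    intro l
    rw [Nat.one_le_iff_ne_zero, ne_eq, Submodule.finrank_eq_zero]
    intro hbot
    obtain ⟨g, hg⟩ := exists_map_line hn hl₀ l.2
    apply hlt
    have h2 : Wsp ρ l₀ ⊓ (W0sp ρ l₀)ᗮ = ⊥ := by
      apply Submodule.map_injective_of_injective (rho_injective (ρ := ρ) g)
      rw [map_inf', map_orthogonal hU, map_Wsp, map_W0sp, hg, Submodule.map_bot]
      exact hbot
    have h3 := Submodule.sup_orthogonal_inf_of_hasOrthogonalProjection (inf_le_left : W0sp ρ l₀ ≤ Wsp ρ l₀)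
    rw [inf_comm (W0sp ρ l₀)ᗮ, h2, sup_bot_eq] at h3
    exact h3
  calc Nat.card (Ln n F) = ∑ _l : Ln n F, 1 := by simp [Nat.card_eq_fintype_card]
    _ ≤ ∑ l, finrank ℂ (U l) := Finset.sum_le_sum fun l _ => hpos l
    _ ≤ _ := sum_finrank_le_of_orth U horth

theorem norm_proj_le_of_inner (U W : Submodule ℂ V) {v w : V} (h : ∀ z ∈ U, ⟪z, v⟫ = ⟪z, w⟫) :
    ‖U.starProjection v‖ ≤ ‖w‖ := by
  have e : U.starProjection v = U.starProjection w := by
    refine (Submodule.eq_starProjection_of_mem_of_inner_eq_zero (U.starProjection_apply_mem v) fun z hz => ?_).symm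
    have h1 := U.starProjection_inner_eq_zero v z hz
    rw [inner_sub_left] at h1 ⊢
    rw [← inner_conj_symm w z, ← h z hz, inner_conj_symm]
    exact h1
  rw [e]
  exact U.norm_starProjection_apply_le w

/-- A flag part forces a degree. -/
theorem engine_bound (hn : 3 ≤ n) (hU : IsUnitary ρ) [ρ.IsIrreducible] (f₀ : Flag n F)
    (hf₀ : E1 ρ f₀.1.1 f₀.1.2 ≠ ⊥) (δ : ℕ)
    (hδ : ∀ p : Submodule F (Vec n F), finrank F p = 1 → ∀ Y ≤ Csp ρ p, Y ≠ ⊥ →
      Invariant ρ (FX p) Y → δ ≤ finrank ℂ Y) :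
    Nat.card (Pt n F) * δ ≤ finrank ℂ V * (Fintype.card F + 1) ^ 2 := by
  classical
  obtain ⟨v, hv, hv0⟩ := (Submodule.ne_bot_iff _).mp hf₀
  obtain ⟨⟨p, l⟩, hp, hl, hpl⟩ := f₀
  simp only at hv hp hl hpl
  haveI := Fintype.ofFinite (Flag n F)
  haveI := Fintype.ofFinite (Submodule F (Vec n F))
  let U : Flag n F → Submodule ℂ V := fun f => E1 ρ f.1.1 f.1.2
  let mv : SLn n F → Flag n F ≃ Flag n F := fun g =>
    { toFun := fun f => ⟨(moveS g f.1.1, moveS g f.1.2), by rw [finrank_moveS, f.2.1],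
        by rw [finrank_moveS, f.2.2.1], moveS_le_moveS g f.2.2.2⟩
      invFun := fun f => ⟨(moveS g⁻¹ f.1.1, moveS g⁻¹ f.1.2), by rw [finrank_moveS, f.2.1],
        by rw [finrank_moveS, f.2.2.1], moveS_le_moveS g⁻¹ f.2.2.2⟩
      left_inv := fun f => by simp [moveS_inv_moveS]
      right_inv := fun f => by
        apply Subtype.ext; simp only [← moveS_mul, mul_inv_cancel, moveS_one]; }
  have hperm : ∀ g, ∃ σ : Flag n F ≃ Flag n F, ∀ f, (U f).map (ρ g) = U (σ f) :=
    fun g => ⟨mv g, fun f => map_E1 hU g _ _⟩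
  set e := finrank ℂ (E1 ρ p l) with he
  have hdim : ∀ f : Flag n F, finrank ℂ (U f) = e := by
    intro f
    obtain ⟨g, hg1, hg2⟩ := exists_map_flag hn hp hl hpl f.2.1 f.2.2.1 f.2.2.2
    rw [he, ← finrank_map_rho (ρ := ρ) g (E1 ρ p l), map_E1 hU, hg1, hg2]
  set S := ∑ f, ‖(U f).starProjection v‖ ^ 2 with hS
  have heq := frame_eq U hU hperm v
  simp only [hdim, Finset.sum_const, Finset.card_univ, nsmul_eq_mul, ← hS] at heq
  let T : Finset (Submodule F (Vec n F)) := Finset.univ.filter (fun r => finrank F r = 1 ∧ r ≤ l)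
  let g : Submodule F (Vec n F) → Submodule F (Vec n F) → ℝ := fun r l' => ‖(E1 ρ r l').starProjection v‖ ^ 2
  let Th : Submodule F (Vec n F) → Finset (Submodule F (Vec n F)) := fun r =>
    Finset.univ.filter (fun l' => finrank F l' = 2 ∧ r ≤ l')
  -- each term is controlled by a common point
  have hterm : ∀ f : Flag n F, ‖(U f).starProjection v‖ ^ 2 ≤ ∑ r ∈ T, if r ≤ f.1.2 then g r f.1.2 else 0 := by
    intro f
    have hnn : ∀ r ∈ T, (0 : ℝ) ≤ if r ≤ f.1.2 then g r f.1.2 else 0 := fun r _ => by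
      split_ifs <;> positivity
    by_cases hll : f.1.2 = l
    · refine le_trans (le_of_eq ?_) (Finset.single_le_sum hnn (Finset.mem_filter.mpr
        ⟨Finset.mem_univ f.1.1, f.2.1, hll ▸ f.2.2.2⟩))
      simp [g, U, f.2.2.2]
    rcases finrank_inf_le_one f.2.2.1 hl hll with h0 | h1
    · refine le_trans (le_of_eq ?_) (Finset.sum_nonneg hnn)
      have : (U f).starProjection v = 0 := by
        refine Submodule.eq_starProjection_of_mem_of_inner_eq_zero (Submodule.zero_mem _) fun z hz => ?_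
        rw [sub_zero, ← inner_conj_symm, inner_W1_skew hU h0 hv.1.1 hz.1.1 hz.2, map_zero]
      rw [this]; simp
    · refine le_trans ?_ (Finset.single_le_sum hnn (Finset.mem_filter.mpr
        ⟨Finset.mem_univ (f.1.2 ⊓ l), h1, inf_le_right⟩))
      rw [if_pos inf_le_left]
      refine pow_le_pow_left₀ (norm_nonneg _) (norm_proj_le_of_inner _ (U f) fun z hz => ?_) 2
      exact inner_W1 hU h1 inf_le_left le_rfl hv.1.1 hz.1.1 hz.2
  have hcount : ∀ r ∈ T, ∑ f : Flag n F, (if r ≤ f.1.2 then g r f.1.2 else 0) =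
      (Fintype.card F + 1 : ℝ) * ∑ l' ∈ Th r, g r l' := by
    intro r _
    haveI := Fintype.ofFinite (Ln n F)
    let e' : Flag n F ≃ Σ l : Ln n F, {p : Submodule F (Vec n F) // finrank F p = 1 ∧ p ≤ l.1} :=
      { toFun := fun f => ⟨⟨f.1.2, f.2.2.1⟩, ⟨f.1.1, f.2.1, f.2.2.2⟩⟩
        invFun := fun f => ⟨(f.2.1, f.1.1), f.2.2.1, f.1.2, f.2.2.2⟩
        left_inv := fun _ => rfl
        right_inv := fun _ => rfl }
    rw [← Equiv.sum_comp e'.symm, Fintype.sum_sigma, Finset.mul_sum]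
    simp only [e', Equiv.coe_fn_symm_mk]
    rw [← Finset.sum_subtype (Finset.univ.filter (fun l' : Submodule F (Vec n F) => finrank F l' = 2)) (fun x => by simp)
      (fun l' : Submodule F (Vec n F) => ∑ _p : {p : Submodule F (Vec n F) // finrank F p = 1 ∧ p ≤ l'}, if r ≤ l' then g r l' else 0)]
    rw [show Th r = (Finset.univ.filter (fun l' : Submodule F (Vec n F) => finrank F l' = 2)).filter (fun l' => r ≤ l') by
      ext; simp [Th], Finset.sum_filter (p := fun l' : Submodule F (Vec n F) => r ≤ l')]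
    refine Finset.sum_congr rfl fun l' hl' => ?_
    rw [Finset.sum_const, Finset.card_univ, ← Nat.card_eq_fintype_card, card_PtsOn (Finset.mem_filter.mp hl').2,
      nsmul_eq_mul]
    split_ifs <;> simp
  have hq : (1 : ℝ) < Fintype.card F := by exact_mod_cast Fintype.one_lt_card
  set M := Fintype.card F ^ (n - 1) - 1 with hM
  have hbound : ∀ r ∈ T, (δ : ℝ) * (∑ l' ∈ Th r, g r l') * ((Fintype.card F - 1 : ℕ) : ℝ) ≤
      (M : ℝ) * e * ‖v‖ ^ 2 := by
    intro r hr
    obtain ⟨-, hr1, -⟩ := Finset.mem_filter.mp hr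
    let L' := {l' : Submodule F (Vec n F) // finrank F l' = 2 ∧ r ≤ l'}
    have hfix : ∀ g' ∈ (FX r : Set (SLn n F)), moveS g' r = r := fun g' hg' => by
      ext y; rw [mem_moveS]
      constructor
      · intro h; have := FX_fix hg' _ h; rw [act_act_inv] at this; rwa [this]
      · intro h; rwa [FX_fix (inv_mem hg') y h]
    have hb := frame_bound (fun l' : L' => E1 ρ r l'.1) hU (FX r : Set (SLn n F)) (Csp ρ r)
      (fun l' => inf_le_left.trans inf_le_right) (fun g' hg' => ⟨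
      { toFun := fun l' => ⟨moveS g' l'.1, by rw [finrank_moveS, l'.2.1],
          (hfix g' hg').ge.trans (moveS_le_moveS g' l'.2.2)⟩
        invFun := fun l' => ⟨moveS g'⁻¹ l'.1, by rw [finrank_moveS, l'.2.1],
          (hfix g'⁻¹ (inv_mem hg')).ge.trans (moveS_le_moveS g'⁻¹ l'.2.2)⟩
        left_inv := fun l' => by simp [moveS_inv_moveS]
        right_inv := fun l' => by apply Subtype.ext; simp only [← moveS_mul, mul_inv_cancel, moveS_one] },
      fun l' => by
        show (E1 ρ r l'.1).map (ρ g') = E1 ρ r (moveS g' l'.1)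
        rw [map_E1 hU, hfix g' hg']⟩) δ (hδ r hr1) v
    have hd' : ∀ l' : L', finrank ℂ (E1 ρ r l'.1) = e := fun l' => hdim ⟨(r, l'.1), hr1, l'.2.1, l'.2.2⟩
    simp only [hd', Finset.sum_const, Finset.card_univ, nsmul_eq_mul] at hb
    rw [← Finset.sum_subtype (Th r) (fun x => by simp [Th]) (fun l' => ‖(E1 ρ r l').starProjection v‖ ^ 2)] at hb
    have hc : ((Fintype.card L' : ℕ) : ℝ) * ((Fintype.card F - 1 : ℕ) : ℝ) = (M : ℝ) := by
      rw [← Nat.cast_mul, ← Nat.card_eq_fintype_card, card_LinesThru (by omega) hr1]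
    calc _ ≤ (Fintype.card L' : ℝ) * e * ‖v‖ ^ 2 * ((Fintype.card F - 1 : ℕ) : ℝ) :=
          mul_le_mul_of_nonneg_right hb (Nat.cast_nonneg _)
      _ = _ := by rw [← hc]; ring
  have hTcard : (T.card : ℝ) = Fintype.card F + 1 := by
    have h := card_PtsOn hl
    rw [Nat.card_eq_fintype_card, Fintype.card_subtype] at h
    rw [show T.card = Fintype.card F + 1 from h]; push_cast; ring
  have hSle : (δ : ℝ) * S * ((Fintype.card F - 1 : ℕ) : ℝ) ≤
      ((Fintype.card F : ℝ) + 1) ^ 2 * ((M : ℝ) * e * ‖v‖ ^ 2) := by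
    calc (δ : ℝ) * S * ((Fintype.card F - 1 : ℕ) : ℝ)
        ≤ (δ : ℝ) * (∑ f : Flag n F, ∑ r ∈ T, if r ≤ f.1.2 then g r f.1.2 else 0) * ((Fintype.card F - 1 : ℕ) : ℝ) :=
          mul_le_mul_of_nonneg_right (mul_le_mul_of_nonneg_left (Finset.sum_le_sum fun f _ => hterm f)
            (Nat.cast_nonneg _)) (Nat.cast_nonneg _)
      _ = ∑ r ∈ T, ((Fintype.card F : ℝ) + 1) * ((δ : ℝ) * (∑ l' ∈ Th r, g r l') * ((Fintype.card F - 1 : ℕ) : ℝ)) := by
          rw [Finset.sum_comm, Finset.sum_congr rfl hcount, Finset.mul_sum, Finset.sum_mul]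
          exact Finset.sum_congr rfl fun r _ => by ring
      _ ≤ ∑ r ∈ T, ((Fintype.card F : ℝ) + 1) * ((M : ℝ) * e * ‖v‖ ^ 2) :=
          Finset.sum_le_sum fun r hr => mul_le_mul_of_nonneg_left (hbound r hr) (by positivity)
      _ = _ := by rw [Finset.sum_const, nsmul_eq_mul, hTcard]; ring
  have hflag : (Fintype.card (Flag n F) : ℝ) * ((Fintype.card F - 1 : ℕ) : ℝ) = (Nat.card (Pt n F) : ℝ) * (M : ℝ) := by
    rw [← Nat.cast_mul, ← Nat.cast_mul, ← Nat.card_eq_fintype_card, card_Flag_pt (by omega)]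
  have hMpos : (0 : ℝ) < (M : ℝ) := by
    have : 1 < Fintype.card F ^ (n - 1) := Nat.one_lt_pow (by omega) Fintype.one_lt_card
    exact_mod_cast (by omega : 0 < M)
  have hepos : (0 : ℝ) < (e : ℝ) := by
    have : e ≠ 0 := fun h => hf₀ (Submodule.finrank_eq_zero.mp h)
    exact_mod_cast Nat.pos_of_ne_zero this
  have hvpos : (0 : ℝ) < ‖v‖ ^ 2 := by positivity
  have main : ((Nat.card (Pt n F) : ℝ) * δ) * ((M : ℝ) * e * ‖v‖ ^ 2) ≤
      ((finrank ℂ V : ℝ) * ((Fintype.card F : ℝ) + 1) ^ 2) * ((M : ℝ) * e * ‖v‖ ^ 2) := by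
    calc _ = (δ : ℝ) * ((Fintype.card (Flag n F) : ℝ) * e * ‖v‖ ^ 2) * ((Fintype.card F - 1 : ℕ) : ℝ) := by
          rw [show (δ : ℝ) * ((Fintype.card (Flag n F) : ℝ) * e * ‖v‖ ^ 2) * ((Fintype.card F - 1 : ℕ) : ℝ) =
            ((Fintype.card (Flag n F) : ℝ) * ((Fintype.card F - 1 : ℕ) : ℝ)) * δ * e * ‖v‖ ^ 2 by ring, hflag]
          ring
      _ = (finrank ℂ V : ℝ) * ((δ : ℝ) * S * ((Fintype.card F - 1 : ℕ) : ℝ)) := by rw [← heq]; ring
      _ ≤ (finrank ℂ V : ℝ) * (((Fintype.card F : ℝ) + 1) ^ 2 * ((M : ℝ) * e * ‖v‖ ^ 2)) :=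
          mul_le_mul_of_nonneg_left hSle (Nat.cast_nonneg _)
      _ = _ := by ring
  exact_mod_cast le_of_mul_le_mul_right main (by positivity)

end finite

end

end Cfsg.Agent.Lib.KnownA.LS
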