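import Mathlib
import Cfsg.Agent.Lib.KnownA.LS.Setup
import Cfsg.Agent.Lib.KnownA.LS.Frames

/-! Eigenspaces of groups of transvections with a common centre. -/

set_option autoImplicit false
set_option maxHeartbeats 400000

namespace Cfsg.Agent.Lib.KnownA.LS

open Module Matrix
open scoped ComplexInnerProductSpace

set_option linter.unusedSectionVars false

noncomputable section

variable {n : ℕ} {F : Type*} [Field F] [Fintype F] {V : Type*} [NormedAddCommGroup V] [InnerProductSpace ℂ V]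
  [FiniteDimensional ℂ V] (ρ : Representation ℂ (SLn n F) V) (ψ : AddChar F ℂ)

theorem exists_addChar (F : Type*) [Field F] [Fintype F] : ∃ ψ : AddChar F ℂ, ψ ≠ 1 := by
  obtain ⟨ψ, hψ⟩ := (AddChar.exists_apply_ne_zero (a := (1 : F))).mpr one_ne_zero
  exact ⟨ψ, fun h => hψ (by rw [h]; rfl)⟩

/-- The eigenspace of the transvections with centre `b` killing `S`, for the character of `z`. -/
def Esp (S : Submodule F (Vec n F)) (b z : Vec n F) : Submodule ℂ V where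
  carrier := {v | ∀ φ : Vec n F, (∀ x ∈ S, φ ⬝ᵥ x = 0) → ∀ h : φ ⬝ᵥ b = 0, ρ (tv b φ h) v = ψ (φ ⬝ᵥ z) • v}
  add_mem' {v w} hv hw φ hφ h := by rw [map_add, hv φ hφ h, hw φ hφ h, smul_add]
  zero_mem' φ _ h := by simp
  smul_mem' c v hv φ hφ h := by rw [map_smul, hv φ hφ h, smul_comm]

variable {ρ ψ} {S : Submodule F (Vec n F)} {b : Vec n F}

theorem mem_Esp {z : Vec n F} {v : V} : v ∈ Esp ρ ψ S b z ↔
    ∀ φ : Vec n F, (∀ x ∈ S, φ ⬝ᵥ x = 0) → ∀ h : φ ⬝ᵥ b = 0, ρ (tv b φ h) v = ψ (φ ⬝ᵥ z) • v := Iff.rfl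

theorem Esp_congr {z z' : Vec n F} (h : z - z' ∈ S) : Esp ρ ψ S b z = Esp ρ ψ S b z' := by
  ext v
  simp only [mem_Esp]
  refine forall₂_congr fun φ hφ => forall_congr' fun hb => ?_
  have : φ ⬝ᵥ z = φ ⬝ᵥ z' := by
    have h0 := hφ _ h; rwa [dotProduct_sub, sub_eq_zero] at h0
  rw [this]

theorem Esp_orth (hU : IsUnitary ρ) (hψ : ψ ≠ 1) (hb : b ∈ S) {z z' : Vec n F} (h : z - z' ∉ S) {x y : V}
    (hx : x ∈ Esp ρ ψ S b z) (hy : y ∈ Esp ρ ψ S b z') : ⟪x, y⟫ = 0 := by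
  obtain ⟨φ₀, hφ₀, hφz⟩ := exists_functional h
  obtain ⟨c, hc⟩ := AddChar.ne_one_iff.mp hψ
  set φ := (-c) • φ₀ with hφ
  have hS : ∀ x ∈ S, φ ⬝ᵥ x = 0 := fun x hx => by rw [hφ, smul_dotProduct, hφ₀ x hx, smul_zero]
  have e := hU (tv b φ (hS b hb)) x y
  rw [hx φ hS, hy φ hS, inner_smul_left, inner_smul_right, ← mul_assoc, ← AddChar.map_neg_eq_conj,
    ← AddChar.map_add_eq_mul] at e
  have hval : -(φ ⬝ᵥ z) + φ ⬝ᵥ z' = c := by
    rw [show -(φ ⬝ᵥ z) + φ ⬝ᵥ z' = -(φ ⬝ᵥ (z - z')) by rw [dotProduct_sub]; ring, hφ, smul_dotProduct, hφz]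
    simp
  rw [hval] at e
  by_contra hne
  exact hc (mul_right_cancel₀ hne (e.trans (one_mul _).symm))

/-- Moving eigenspaces. -/
theorem map_Esp_le {g : SLn n F} {s : F} (hs : s ≠ 0) (hS : ∀ x ∈ S, act g x ∈ S) (hgb : act g b = s • b)
    {z : Vec n F} {v : V} (hv : v ∈ Esp ρ ψ S b z) : ρ g v ∈ Esp ρ ψ S b (s⁻¹ • act g z) := by
  intro φ hφ h
  set φ' := s⁻¹ • (φ ᵥ* (g : Matrix (Fin n) (Fin n) F)) with hφ'
  have hS' : ∀ x ∈ S, φ' ⬝ᵥ x = 0 := fun x hx => by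
    rw [hφ', smul_dotProduct, vecMul_dot, hφ _ (hS x hx), smul_zero]
  have hb' : φ' ⬝ᵥ b = 0 := by rw [hφ', smul_dotProduct, vecMul_dot, hgb, dotProduct_smul, h, smul_zero, smul_zero]
  have e : tv b φ h * g = g * tv b φ' hb' := by
    refine act_ext fun x => ?_
    rw [act_mul, act_mul, act_tv, act_tv, act_add, act_smul, hgb, hφ', smul_dotProduct, vecMul_dot, smul_smul,
      smul_eq_mul, mul_comm s⁻¹, mul_assoc, inv_mul_cancel₀ hs, mul_one]
  rw [← Module.End.mul_apply, ← map_mul, e, map_mul, Module.End.mul_apply, hv φ' hS' hb', map_smul, hφ',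
    smul_dotProduct, vecMul_dot, dotProduct_smul]

theorem finrank_Esp_le {Z : Submodule ℂ V} {g : SLn n F} {s : F} (hs : s ≠ 0) (hS : ∀ x ∈ S, act g x ∈ S)
    (hgb : act g b = s • b) (hZ : ∀ v ∈ Z, ρ g v ∈ Z) {z z' : Vec n F} (hz : s⁻¹ • act g z - z' ∈ S) :
    finrank ℂ (Z ⊓ Esp ρ ψ S b z : Submodule ℂ V) ≤ finrank ℂ (Z ⊓ Esp ρ ψ S b z' : Submodule ℂ V) := by
  rw [← finrank_map_rho (ρ := ρ) g (Z ⊓ Esp ρ ψ S b z)]
  have hle : (Z ⊓ Esp ρ ψ S b z).map (ρ g) ≤ Z ⊓ Esp ρ ψ S b z' := ?_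
  · exact Submodule.finrank_mono hle
  rintro _ ⟨v, ⟨hvZ, hv⟩, rfl⟩
  exact ⟨hZ v hvZ, by rw [← Esp_congr hz]; exact map_Esp_le hs hS hgb hv⟩

/-- Decomposition into eigenvectors. -/
theorem card_smul_eq_sum (hψ : ψ ≠ 1) (hb : b ∈ S) {Z : Submodule ℂ V}
    (hZ : ∀ φ : Vec n F, (∀ x ∈ S, φ ⬝ᵥ x = 0) → ∀ h : φ ⬝ᵥ b = 0, ∀ v ∈ Z, ρ (tv b φ h) v ∈ Z) {v : V}
    (hv : v ∈ Z) : ∃ e : Vec n F → V, (∀ z, e z ∈ Z ⊓ Esp ρ ψ S b z) ∧
      (Fintype.card (Vec n F) : ℂ) • v = ∑ z, e z := by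
  classical
  haveI : Fintype {φ : Vec n F // ∀ x ∈ S, φ ⬝ᵥ x = 0} := Fintype.ofFinite _
  refine ⟨fun z => ∑ φ : {φ : Vec n F // ∀ x ∈ S, φ ⬝ᵥ x = 0},
    ψ (-(φ.1 ⬝ᵥ z)) • ρ (tv b φ.1 (φ.2 b hb)) v, fun z => ⟨?_, ?_⟩, ?_⟩
  · exact Z.sum_mem fun φ _ => Z.smul_mem _ (hZ _ φ.2 _ v hv)
  · intro φ₁ hφ₁ h₁
    let e : {φ : Vec n F // ∀ x ∈ S, φ ⬝ᵥ x = 0} ≃ {φ : Vec n F // ∀ x ∈ S, φ ⬝ᵥ x = 0} :=
      { toFun := fun φ => ⟨φ₁ + φ.1, fun x hx => by rw [add_dotProduct, hφ₁ x hx, φ.2 x hx, add_zero]⟩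
        invFun := fun φ => ⟨φ.1 - φ₁, fun x hx => by rw [sub_dotProduct, hφ₁ x hx, φ.2 x hx, sub_zero]⟩
        left_inv := fun φ => by simp
        right_inv := fun φ => by simp }
    rw [map_sum, Finset.smul_sum]
    refine Fintype.sum_equiv e _ _ fun φ => ?_
    rw [map_smul, ← Module.End.mul_apply, ← map_mul, tv_mul, smul_smul, ← AddChar.map_add_eq_mul]
    show _ = ψ (φ₁ ⬝ᵥ z + -((φ₁ + φ.1) ⬝ᵥ z)) • _
    have he : φ₁ ⬝ᵥ z + -((φ₁ + φ.1) ⬝ᵥ z) = -(φ.1 ⬝ᵥ z) := by rw [add_dotProduct]; ring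
    rw [he]
    rfl
  · rw [Finset.sum_comm]
    simp only [← Finset.sum_smul]
    rw [Finset.sum_eq_single (⟨0, fun x _ => zero_dotProduct x⟩ : {φ : Vec n F // ∀ x ∈ S, φ ⬝ᵥ x = 0})]
    · simp only [zero_dotProduct, neg_zero, AddChar.map_zero_eq_one, Finset.sum_const, Finset.card_univ,
        nsmul_eq_mul, mul_one]
      rw [tv_congr rfl rfl _ (zero_dotProduct b), tv_zero, map_one, Module.End.one_apply]
    · intro φ _ hne
      obtain ⟨c, hc⟩ := AddChar.ne_one_iff.mp hψ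
      obtain ⟨z₀, hz₀⟩ : ∃ z₀, φ.1 ⬝ᵥ z₀ ≠ 0 := by
        by_contra hcon
        push_neg at hcon
        exact hne (Subtype.ext (dotProduct_eq _ _ fun x => by rw [hcon x, zero_dotProduct]))
      set z₁ := (-c / (φ.1 ⬝ᵥ z₀)) • z₀ with hz₁
      have hshift : ∑ z, ψ (-(φ.1 ⬝ᵥ z)) = ψ c * ∑ z, ψ (-(φ.1 ⬝ᵥ z)) := by
        rw [Finset.mul_sum]
        refine (Fintype.sum_equiv (Equiv.addRight z₁) _ _ fun z => ?_).symm
        rw [Equiv.coe_addRight, dotProduct_add, hz₁, dotProduct_smul, smul_eq_mul, div_mul_cancel₀ _ hz₀,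
          ← AddChar.map_add_eq_mul]
        congr 1; ring
      have h0 : ∑ z, ψ (-(φ.1 ⬝ᵥ z)) = 0 := by
        by_contra h0
        exact hc (mul_right_cancel₀ h0 ((one_mul _).trans hshift).symm)
      rw [h0, zero_smul]
    · exact fun h => absurd (Finset.mem_univ _) h

/-- The dimension is split among the classes modulo `S`. -/
theorem finrank_eq_of_uniform (hU : IsUnitary ρ) (hψ : ψ ≠ 1) (hb : b ∈ S) {Z : Submodule ℂ V}
    (hZ : ∀ φ : Vec n F, (∀ x ∈ S, φ ⬝ᵥ x = 0) → ∀ h : φ ⬝ᵥ b = 0, ∀ v ∈ Z, ρ (tv b φ h) v ∈ Z) {m : ℕ}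
    (hm : ∀ z ∉ S, finrank ℂ (Z ⊓ Esp ρ ψ S b z : Submodule ℂ V) = m) :
    finrank ℂ Z = finrank ℂ (Z ⊓ Esp ρ ψ S b 0 : Submodule ℂ V) +
      (Fintype.card F ^ (n - finrank F S) - 1) * m := by
  classical
  obtain ⟨K, hK⟩ := Submodule.exists_isCompl S
  haveI : Fintype K := Fintype.ofFinite _
  let U : K → Submodule ℂ V := fun k => Z ⊓ Esp ρ ψ S b (k : Vec n F)
  let f : (Σ k : K, Fin (finrank ℂ (U k))) → V := fun x => ((stdOrthonormalBasis ℂ (U x.1) x.2 : U x.1) : V)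
  have hdiff : ∀ i j : K, i ≠ j → (i : Vec n F) - j ∉ S := fun i j hij h => by
    have h0 : ((i : Vec n F) - j) ∈ S ⊓ K := ⟨h, K.sub_mem i.2 j.2⟩
    rw [hK.inf_eq_bot, Submodule.mem_bot, sub_eq_zero] at h0
    exact hij (Subtype.ext h0)
  have ho : Orthonormal ℂ f := by
    rw [orthonormal_iff_ite]
    rintro ⟨i, a⟩ ⟨j, c⟩
    by_cases hij : i = j
    · subst hij
      simp only [f]
      rw [← Submodule.coe_inner, orthonormal_iff_ite.mp (stdOrthonormalBasis ℂ (U i)).orthonormal a c]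
      simp
    · rw [if_neg (fun e => hij (congrArg Sigma.fst e))]
      exact Esp_orth hU hψ hb (hdiff i j hij) (Submodule.coe_mem _ : f ⟨i, a⟩ ∈ U i).2
        (Submodule.coe_mem _ : f ⟨j, c⟩ ∈ U j).2
  have hspan : Submodule.span ℂ (Set.range f) = Z := by
    refine le_antisymm (Submodule.span_le.mpr ?_) fun v hv => ?_
    · rintro _ ⟨x, rfl⟩; exact (Submodule.coe_mem _ : f x ∈ U x.1).1
    · obtain ⟨e, he, hsum⟩ := card_smul_eq_sum hψ hb hZ hv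
      have hU' : ∀ k, U k ≤ Submodule.span ℂ (Set.range f) := fun k w hw => by
        have h1 := (stdOrthonormalBasis ℂ (U k)).sum_repr ⟨w, hw⟩
        have h2 := congrArg (Subtype.val) h1
        simp only [AddSubmonoidClass.coe_finset_sum, Submodule.coe_smul] at h2
        rw [← h2]
        exact Submodule.sum_mem _ fun j _ => Submodule.smul_mem _ _ (Submodule.subset_span ⟨⟨k, j⟩, rfl⟩)
      have hmem : (Fintype.card (Vec n F) : ℂ) • v ∈ Submodule.span ℂ (Set.range f) := by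
        rw [hsum]
        refine Submodule.sum_mem _ fun z _ => ?_
        obtain ⟨s, hs, k, hk, hsk⟩ := Submodule.mem_sup.mp (hK.sup_eq_top ▸ Submodule.mem_top : z ∈ S ⊔ K)
        refine hU' ⟨k, hk⟩ ?_
        show e z ∈ Z ⊓ Esp ρ ψ S b k
        rw [← Esp_congr (show z - k ∈ S by rw [← hsk, add_sub_cancel_right]; exact hs)]
        exact he z
      have := Submodule.smul_mem _ ((Fintype.card (Vec n F) : ℂ)⁻¹) hmem
      rwa [smul_smul, inv_mul_cancel₀ (by exact_mod_cast Fintype.card_ne_zero), one_smul] at this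
  have hcard : finrank ℂ Z = ∑ k : K, finrank ℂ (U k) := by
    rw [← hspan, finrank_span_eq_card ho.linearIndependent, Fintype.card_sigma]
    simp
  rw [hcard, Fintype.sum_eq_add_sum_compl (0 : K), Finset.sum_congr rfl (fun k hk => ?_), Finset.sum_const,
    smul_eq_mul, Finset.card_compl, Finset.card_singleton]
  · congr 1
    have h := Submodule.finrank_add_eq_of_isCompl hK
    rw [finrank_fin_fun] at h
    rw [show Fintype.card K = Fintype.card F ^ (n - finrank F S) by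
      rw [show n - finrank F S = finrank F K by omega]; exact Module.card_eq_pow_finrank]
  · refine hm _ fun hS' => ?_
    have hk0 : k ≠ 0 := by simpa using hk
    exact hdiff k 0 hk0 (by simpa using hS')

end

end Cfsg.Agent.Lib.KnownA.LS
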