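import Mathlib
import Cfsg.Agent.Lib.KnownA.LS.Engine
import Cfsg.Agent.Lib.KnownA.LS.Orbit

/-! Structure of the fixed spaces in a nontrivial irreducible unitary representation of small degree. -/

set_option autoImplicit false
set_option maxHeartbeats 400000

namespace Cfsg.Agent.Lib.KnownA.LS

open Module Matrix
open scoped ComplexInnerProductSpace

set_option linter.unusedSectionVars false

noncomputable section

variable {n : ℕ} {F : Type*} [Field F] [Fintype F] {V : Type*} [NormedAddCommGroup V] [InnerProductSpace ℂ V]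
  [FiniteDimensional ℂ V] {ρ : Representation ℂ (SLn n F) V}

theorem span_singleton_ne_top (hn : 3 ≤ n) (x : Vec n F) : Submodule.span F {x} ≠ ⊤ := by
  refine ne_top_of_finrank_lt ?_
  rcases eq_or_ne x 0 with rfl | h
  · rw [Submodule.span_zero_singleton, finrank_bot]; omega
  · rw [finrank_span_singleton h]; omega

theorem exists_act_eq (hn : 3 ≤ n) {x y : Vec n F} (hx : x ≠ 0) (hy : y ≠ 0) : ∃ g : SLn n F, act g x = y := by
  obtain ⟨g, -, hg⟩ := exists_move (S := (⊥ : Submodule F (Vec n F))) (x := x) (y := y) (by simpa using hx)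
    (by simpa using hy) (by rw [bot_sup_eq]; exact span_singleton_ne_top hn x)
  exact ⟨g, hg⟩

theorem exists_map_point (hn : 3 ≤ n) {p q : Submodule F (Vec n F)} (hp : finrank F p = 1) (hq : finrank F q = 1) :
    ∃ g : SLn n F, moveS g p = q := by
  obtain ⟨x, hx, rfl⟩ := exists_point_vec hp
  obtain ⟨y, hy, rfl⟩ := exists_point_vec hq
  obtain ⟨g, hg⟩ := exists_act_eq hn hx hy
  exact ⟨g, by rw [moveS_span, Set.image_singleton, hg]⟩

theorem moveS_eq_of_fix {S : Submodule F (Vec n F)} {g : SLn n F} (h : g ∈ FX S) : moveS g S = S := by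
  ext y
  rw [mem_moveS]
  constructor
  · intro hy; have := FX_fix h _ hy; rw [act_act_inv] at this; rwa [this]
  · intro hy; rwa [FX_fix (inv_mem h) y hy]

theorem mem_Csp_of_moveS {p : Submodule F (Vec n F)} {g : SLn n F} (h : moveS g p = p) {v : V}
    (hv : v ∈ Csp ρ p) : ρ g v ∈ Csp ρ p := by
  have := Submodule.mem_map_of_mem (f := ρ g) hv
  rwa [map_Csp, h] at this

theorem mem_Csp_orth_of_moveS (hU : IsUnitary ρ) {p : Submodule F (Vec n F)} {g : SLn n F} (h : moveS g p = p)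
    {v : V} (hv : v ∈ (Csp ρ p)ᗮ) : ρ g v ∈ (Csp ρ p)ᗮ := by
  have := Submodule.mem_map_of_mem (f := ρ g) hv
  rwa [map_orthogonal hU, map_Csp, h] at this

/-- The vectors fixed by everything vanish. -/
theorem fixed_eq_zero [ρ.IsIrreducible] (hnt : ∃ g v, ρ g v ≠ v) {v : V} (hv : ∀ g, ρ g v = v) : v = 0 := by
  let S : Subrepresentation ρ :=
    { toSubmodule := fixedSp ρ Set.univ
      apply_mem_toSubmodule := fun g w hw => by
        intro h _
        rw [show ρ g w = w from hw g trivial]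
        exact hw h trivial }
  rcases eq_bot_or_eq_top S with h | h
  · have hv' : v ∈ S.toSubmodule := fun g _ => hv g
    rw [h] at hv'
    exact hv'
  · obtain ⟨g, w, hw⟩ := hnt
    have hw' : w ∈ S.toSubmodule := by rw [h]; trivial
    exact absurd (hw' g trivial) hw

/-- The point fixed spaces are proper. -/
theorem Csp_ne_top (hn : 3 ≤ n) (hnt : ∃ g v, ρ g v ≠ v) {p : Submodule F (Vec n F)} (hp : finrank F p = 1) :
    Csp ρ p ≠ ⊤ := by
  intro htop
  have hall : ∀ q : Submodule F (Vec n F), finrank F q = 1 → Csp ρ q = ⊤ := fun q hq => by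
    obtain ⟨g, hg⟩ := exists_map_point hn hp hq
    rw [← hg, ← map_Csp, htop, eq_top_iff]
    exact fun w _ => ⟨ρ g⁻¹ w, trivial, rho_apply_inv g w⟩
  obtain ⟨g, v, hv⟩ := hnt
  apply hv
  have hg : g ∈ FX (⊥ : Submodule F (Vec n F)) :=
    mem_FX_iff.mpr fun x hx => by rw [(Submodule.mem_bot F).mp hx]; exact (actL g).map_zero
  refine fixedSp_closure (s := TK (⊥ : Submodule F (Vec n F))) ?_ hg
  rintro t ⟨a, φ, h, -, rfl⟩
  rcases eq_or_ne a 0 with rfl | ha
  · rw [show tv 0 φ h = 1 from act_ext fun x => by simp [act_tv, act_one], map_one, Module.End.one_apply]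
  · have hv' : v ∈ Csp ρ (Submodule.span F {a}) := by rw [hall _ (finrank_span_singleton ha)]; trivial
    refine hv' _ ⟨a, φ, h, Submodule.mem_span_singleton_self a, fun x hx => ?_, rfl⟩
    obtain ⟨c, rfl⟩ := Submodule.mem_span_singleton.mp hx
    rw [dotProduct_smul, h, smul_zero]

/-- A fixed vector of a point fixator forces large degree. -/
theorem lemmaB (hn : 3 ≤ n) (hU : IsUnitary ρ) [ρ.IsIrreducible] (hnt : ∃ g v, ρ g v ≠ v)
    {p : Submodule F (Vec n F)} (hp : finrank F p = 1) (hW : Wsp ρ p ≠ ⊥) :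
    Nat.card (Pt n F) ≤ finrank ℂ V + 1 := by
  classical
  obtain ⟨e, he, hpe⟩ := exists_point_vec hp
  obtain ⟨v, hv, hv0⟩ := (Submodule.ne_bot_iff _).mp hW
  haveI := Fintype.ofFinite (Pt n F)
  choose gx hgx using fun x : {x : Vec n F // x ≠ 0} => exists_act_eq hn he x.2
  let w : Vec n F → V := fun x => if h : x ≠ 0 then ρ (gx ⟨x, h⟩) v else 0
  have hact0 : ∀ (g : SLn n F) {x : Vec n F}, x ≠ 0 → act g x ≠ 0 := fun g x hx h => hx (by
    have := congrArg (act g⁻¹) h
    rwa [act_inv_act, show act g⁻¹ 0 = 0 from (actL g⁻¹).map_zero] at this)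
  have hw : ∀ (g : SLn n F) (x : Vec n F), x ≠ 0 → ρ g (w x) = w (act g x) := by
    intro g x hx
    simp only [w, dif_pos hx, dif_pos (hact0 g hx)]
    set h := gx ⟨act g x, hact0 g hx⟩ with hh
    have hfix : h⁻¹ * (g * gx ⟨x, hx⟩) ∈ FX p := by
      refine mem_FX_iff.mpr fun y hy => ?_
      rw [hpe] at hy
      obtain ⟨c, rfl⟩ := Submodule.mem_span_singleton.mp hy
      rw [act_smul, act_mul, act_mul, hgx ⟨x, hx⟩]
      congr 1
      have h2 : act h e = act g x := hgx _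
      show act h⁻¹ (act g x) = e
      rw [← h2, act_inv_act]
    have := fixedSp_closure (ρ := ρ) hv hfix
    rw [map_mul, map_mul, Module.End.mul_apply, Module.End.mul_apply] at this
    conv_rhs => rw [← this]
    rw [rho_apply_inv]
  have hwne : ∀ x, x ≠ 0 → w x ≠ 0 := fun x hx h => hv0 (by
    simp only [w, dif_pos hx] at h
    exact rho_injective (ρ := ρ) _ (h.trans (map_zero _).symm))
  choose r hr0 hr using fun P : Pt n F => exists_point_vec P.2
  have hind : ∀ (P Q : Pt n F) (c d : F), c ≠ 0 → P ≠ Q → d • r Q ∉ Submodule.span F {c • r P} ∨ d = 0 := by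
    intro P Q c d hc hPQ
    rcases eq_or_ne d 0 with hd | hd
    · exact Or.inr hd
    refine Or.inl fun h => hPQ (Subtype.ext ?_)
    obtain ⟨t, ht⟩ := Submodule.mem_span_singleton.mp h
    refine (Submodule.eq_of_le_of_finrank_eq ?_ (Q.2.trans P.2.symm)).symm
    rw [hr Q, Submodule.span_singleton_le_iff_mem, hr P]
    exact Submodule.mem_span_singleton.mpr ⟨d⁻¹ * (t * c), by
      rw [mul_smul, mul_smul, ht, inv_smul_smul₀ hd]⟩
  obtain ⟨y₀, hy₀⟩ : ∃ y₀, y₀ ∉ Submodule.span F {e} := by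
    obtain ⟨y, -, hy⟩ := SetLike.exists_of_lt (span_singleton_ne_top hn e).lt_top
    exact ⟨y, hy⟩
  have hy₀0 : y₀ ≠ 0 := fun h => hy₀ (h ▸ Submodule.zero_mem _)
  set a := ⟪w e, w y₀⟫ with ha
  have hgram : ∀ x y, x ≠ 0 → y ∉ Submodule.span F {x} → ⟪w x, w y⟫ = a := by
    intro x y hx hy
    obtain ⟨g₁, hg₁⟩ := exists_act_eq hn he hx
    have hy1 : act g₁ y₀ ∉ Submodule.span F {x} := by
      intro h
      obtain ⟨c, hc⟩ := Submodule.mem_span_singleton.mp h
      rw [← hg₁, ← act_smul] at hc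
      have := congrArg (act g₁⁻¹) hc
      simp only [act_inv_act] at this
      exact hy₀ (Submodule.mem_span_singleton.mpr ⟨c, this⟩)
    obtain ⟨g₂, hg₂, hg₂y⟩ := exists_move hy1 hy (ne_top_of_finrank_lt (by
      rw [Submodule.finrank_sup_span_singleton hy1, finrank_span_singleton hx]; omega))
    conv_rhs => rw [ha, ← hU (g₂ * g₁), hw _ _ he, hw _ _ hy₀0, act_mul, act_mul, hg₁, hg₂y,
      FX_fix hg₂ x (Submodule.mem_span_singleton_self x)]
  have hgramP : ∀ (P Q : Pt n F) (c d : F), c ≠ 0 → d ≠ 0 → P ≠ Q → ⟪w (c • r P), w (d • r Q)⟫ = a := fun P Q c d hc hd h =>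
    hgram _ _ (smul_ne_zero hc (hr0 P)) ((hind P Q c d hc h).resolve_right hd)
  rw [Nat.card_eq_fintype_card]
  by_cases ha0 : a = 0
  · have hli : LinearIndependent ℂ (fun P : Pt n F => w (r P)) := by
      refine linearIndependent_of_ne_zero_of_inner_eq_zero (fun P => hwne _ (hr0 P)) fun P Q hPQ => ?_
      have := hgramP P Q 1 1 one_ne_zero one_ne_zero hPQ
      simpa [ha0] using this
    exact le_trans hli.fintype_card_le_finrank (Nat.le_succ _)
  let u : Pt n F → V := fun P => ∑ c : Fˣ, w ((c : F) • r P)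
  set A : ℂ := (Fintype.card Fˣ : ℂ) * (Fintype.card Fˣ : ℂ) * a with hA
  have hA0 : A ≠ 0 := by
    have : (Fintype.card Fˣ : ℂ) ≠ 0 := by exact_mod_cast Fintype.card_ne_zero
    exact mul_ne_zero (mul_ne_zero this this) ha0
  have hoff : ∀ P Q, P ≠ Q → ⟪u P, u Q⟫ = A := by
    intro P Q h
    simp only [u, sum_inner, inner_sum]
    rw [Finset.sum_congr rfl fun c _ => Finset.sum_congr rfl fun d _ => hgramP P Q _ _ d.ne_zero c.ne_zero h]
    simp [hA, mul_assoc]
  let mv : SLn n F → Pt n F → Pt n F := fun g P => ⟨moveS g P.1, by rw [finrank_moveS, P.2]⟩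
  have hu : ∀ g P, ρ g (u P) = u (mv g P) := by
    intro g P
    obtain ⟨d, hd⟩ : ∃ d : F, act g (r P) = d • r (mv g P) := by
      have h1 : act g (r P) ∈ (mv g P).1 := by
        show act g (r P) ∈ moveS g P.1
        rw [mem_moveS, act_inv_act, hr P]
        exact Submodule.mem_span_singleton_self _
      rw [hr (mv g P)] at h1
      obtain ⟨d, hd⟩ := Submodule.mem_span_singleton.mp h1
      exact ⟨d, hd.symm⟩
    have hd0 : d ≠ 0 := fun h => hact0 g (hr0 P) (by rw [hd, h, zero_smul])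
    simp only [u, map_sum]
    refine Fintype.sum_equiv (Equiv.mulRight (Units.mk0 d hd0)) _ _ fun c => ?_
    rw [hw _ _ (smul_ne_zero c.ne_zero (hr0 P)), act_smul, hd, smul_smul]
    rfl
  let P₀ : Pt n F := ⟨p, hp⟩
  set B := ⟪u P₀, u P₀⟫ with hB
  have hdiag : ∀ P, ⟪u P, u P⟫ = B := by
    intro P
    obtain ⟨g, hg⟩ := exists_map_point hn hp P.2
    have : mv g P₀ = P := Subtype.ext hg
    rw [hB, ← this, ← hu, hU]
  by_cases hAB : B = A
  · exfalso
    have hueq : ∀ P, u P = u P₀ := fun P => by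
      rcases eq_or_ne P P₀ with rfl | h
      · rfl
      rw [← sub_eq_zero, ← inner_self_eq_zero (𝕜 := ℂ), inner_sub_left, inner_sub_right, inner_sub_right, hdiag,
        hdiag, hoff _ _ h, hoff _ _ h.symm, hAB, sub_self]
    have hfix : ∀ g, ρ g (u P₀) = u P₀ := fun g => by rw [hu, hueq]
    have h0 := fixed_eq_zero hnt hfix
    apply hA0
    rw [← hAB, hB, h0, inner_zero_right]
  let T : (Pt n F → ℂ) →ₗ[ℂ] V :=
    { toFun := fun c => ∑ P, c P • u P
      map_add' := fun c d => by simp [add_smul, Finset.sum_add_distrib]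
      map_smul' := fun c d => by simp [Finset.smul_sum, smul_smul] }
  have hker : T.ker ≤ Submodule.span ℂ {(fun _ => 1 : Pt n F → ℂ)} := by
    intro c hc
    have key : ∀ Q, A * (∑ P, c P) + (B - A) * c Q = 0 := by
      intro Q
      have h1 : ⟪u Q, T c⟫ = 0 := by rw [LinearMap.mem_ker.mp hc, inner_zero_right]
      simp only [T, LinearMap.coe_mk, AddHom.coe_mk, inner_sum, inner_smul_right] at h1
      rw [Finset.sum_congr rfl (fun P _ => show c P * ⟪u Q, u P⟫ = A * c P + if Q = P then (B - A) * c P else 0 by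
        split_ifs with h
        · subst h; rw [hdiag]; ring
        · rw [hoff _ _ h]; ring), Finset.sum_add_distrib, ← Finset.mul_sum, Finset.sum_ite_eq,
        if_pos (Finset.mem_univ Q)] at h1
      exact h1
    refine Submodule.mem_span_singleton.mpr ⟨-(A * ∑ P, c P) / (B - A), funext fun Q => ?_⟩
    rw [Pi.smul_apply, smul_eq_mul, mul_one, div_eq_iff (sub_ne_zero.mpr hAB)]
    linear_combination -(key Q)
  have h1 := T.finrank_range_add_finrank_ker
  rw [finrank_fintype_fun_eq_card] at h1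
  have h2 : finrank ℂ T.ker ≤ 1 := by
    refine (Submodule.finrank_mono hker).trans ?_
    refine (finrank_span_le_card _).trans ?_
    simp
  have h3 := Submodule.finrank_le T.range
  omega

variable {ψ : AddChar F ℂ}

theorem Esp_zero_eq {x : Vec n F} : Esp ρ ψ (Submodule.span F {x}) x 0 = Csp ρ (Submodule.span F {x}) := by
  ext v
  rw [mem_Esp]
  constructor
  · rintro hv t ⟨a, φ, h, ha, hφ, rfl⟩
    obtain ⟨c, rfl⟩ := Submodule.mem_span_singleton.mp ha
    have hφx : φ ⬝ᵥ x = 0 := hφ x (Submodule.mem_span_singleton_self x)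
    have h' : (c • φ) ⬝ᵥ x = 0 := by rw [smul_dotProduct, hφx, smul_zero]
    rw [tv_smul c x φ h h', hv _ (fun y hy => by rw [smul_dotProduct, hφ y hy, smul_zero]) h']
    simp
  · intro hv φ hφ h
    rw [dotProduct_zero, AddChar.map_zero_eq_one, one_smul]
    exact hv _ ⟨x, φ, h, Submodule.mem_span_singleton_self x, hφ, rfl⟩

/-- The complement of `C p` splits into translates of one eigenspace. -/
theorem orth_structure (hn : 3 ≤ n) (hU : IsUnitary ρ) (hψ : ψ ≠ 1) {x : Vec n F} (hx : x ≠ 0) {z : Vec n F}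
    (hz : z ∉ Submodule.span F {x}) :
    finrank ℂ V = finrank ℂ (Csp ρ (Submodule.span F {x})) + (Fintype.card F ^ (n - 1) - 1) *
      finrank ℂ ((Csp ρ (Submodule.span F {x}))ᗮ ⊓ Esp ρ ψ (Submodule.span F {x}) x z : Submodule ℂ V) := by
  set p := Submodule.span F {x} with hp
  have hp1 : finrank F p = 1 := finrank_span_singleton hx
  have hle : ∀ z₁ z₂, z₁ ∉ p → z₂ ∉ p →
      finrank ℂ ((Csp ρ p)ᗮ ⊓ Esp ρ ψ p x z₁ : Submodule ℂ V) ≤ finrank ℂ ((Csp ρ p)ᗮ ⊓ Esp ρ ψ p x z₂ : Submodule ℂ V) := by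
    intro z₁ z₂ h₁ h₂
    obtain ⟨g, hg, hgz⟩ := exists_move h₁ h₂ (ne_top_of_finrank_lt (by
      rw [Submodule.finrank_sup_span_singleton h₁, hp1]; omega))
    refine finrank_Esp_le (g := g) (s := 1) one_ne_zero (fun y hy => by rwa [FX_fix hg y hy])
      (by rw [FX_fix hg x (Submodule.mem_span_singleton_self x), one_smul])
      (fun v hv => mem_Csp_orth_of_moveS hU (moveS_eq_of_fix hg) hv) ?_
    rw [inv_one, one_smul, hgz, sub_self]
    exact p.zero_mem
  have h := finrank_eq_of_uniform hU hψ (Submodule.mem_span_singleton_self x) (Z := (Csp ρ p)ᗮ)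
    (m := finrank ℂ ((Csp ρ p)ᗮ ⊓ Esp ρ ψ p x z : Submodule ℂ V))
    (fun φ hφ h v hv => mem_Csp_orth_of_moveS hU (moveS_eq_of_fix (Subgroup.subset_closure ⟨_, _, h, hφ, rfl⟩)) hv)
    (fun z' hz' => le_antisymm (hle z' z hz' hz) (hle z z' hz hz'))
  have h0 : (Csp ρ p)ᗮ ⊓ Esp ρ ψ p x 0 = ⊥ := by
    rw [hp, Esp_zero_eq, inf_comm]; exact Submodule.inf_orthogonal_eq_bot _
  rw [h0, finrank_bot, zero_add, hp1] at h
  have h' := Submodule.finrank_add_finrank_orthogonal (Csp ρ p)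
  omega

/-- A torus element on two coordinates. -/
theorem exists_torus {S : Submodule F (Vec n F)} {a b α β : Vec n F} (haa : α ⬝ᵥ a = 1) (hab : α ⬝ᵥ b = 0)
    (hba : β ⬝ᵥ a = 0) (hbb : β ⬝ᵥ b = 1) (hα : ∀ x ∈ S, α ⬝ᵥ x = 0) (hβ : ∀ x ∈ S, β ⬝ᵥ x = 0) {s : F}
    (hs : s ≠ 0) :
    ∃ t ∈ FX S, ∀ x, act t x = x + ((s - 1) * (α ⬝ᵥ x)) • a + ((s⁻¹ - 1) * (β ⬝ᵥ x)) • b := by
  have hu : ∀ c : F, (c • β) ⬝ᵥ a = 0 := fun c => by rw [smul_dotProduct, hba, smul_zero]
  have hl : ∀ c : F, (c • α) ⬝ᵥ b = 0 := fun c => by rw [smul_dotProduct, hab, smul_zero]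
  refine ⟨tv b ((s⁻¹ - 1) • α) (hl _) * tv a ((1 : F) • β) (hu _) * tv b ((s - 1) • α) (hl _) *
    tv a ((-s⁻¹) • β) (hu _), ?_, fun x => ?_⟩
  · have h1 : ∀ c : F, tv b (c • α) (hl c) ∈ FX S := fun c =>
      Subgroup.subset_closure ⟨_, _, hl c, fun y hy => by rw [smul_dotProduct, hα y hy, smul_zero], rfl⟩
    have h2 : ∀ c : F, tv a (c • β) (hu c) ∈ FX S := fun c =>
      Subgroup.subset_closure ⟨_, _, hu c, fun y hy => by rw [smul_dotProduct, hβ y hy, smul_zero], rfl⟩
    exact mul_mem (mul_mem (mul_mem (h1 _) (h2 _)) (h1 _)) (h2 _)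
  · simp only [act_mul, act_tv, smul_dotProduct, dotProduct_add, dotProduct_smul, haa, hab, hba, hbb, smul_eq_mul,
      mul_one, mul_zero, add_zero, zero_add, one_mul]
    match_scalars <;> field_simp <;> ring

theorem exists_ker_not_mem {S : Submodule F (Vec n F)} (hS : finrank F S + 2 ≤ n) (φ : Vec n F) :
    ∃ b, φ ⬝ᵥ b = 0 ∧ b ∉ S := by
  by_contra h
  push_neg at h
  have hle : (ofVec φ).ker ≤ S := fun b hb => h b (LinearMap.mem_ker.mp hb)
  have h1 := (ofVec φ).finrank_range_add_finrank_ker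
  have h2 := Submodule.finrank_mono hle
  have h3 := Submodule.finrank_le (ofVec φ).range
  rw [finrank_fin_fun] at h1
  rw [finrank_self] at h3
  omega

omit [Fintype F] in
theorem commutator_fix {v : V} {g h : SLn n F} (hg : ∃ c : ℂ, ρ g v = c • v) (hh : ∃ c : ℂ, ρ h v = c • v) :
    ρ (g * h * g⁻¹ * h⁻¹) v = v := by
  obtain ⟨c, hc⟩ := hg
  obtain ⟨d, hd⟩ := hh
  rcases eq_or_ne v 0 with rfl | hv
  · exact map_zero _
  have hc0 : c ≠ 0 := fun e => hv (rho_injective (ρ := ρ) g (by rw [hc, e, zero_smul, map_zero]))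
  have hd0 : d ≠ 0 := fun e => hv (rho_injective (ρ := ρ) h (by rw [hd, e, zero_smul, map_zero]))
  have hc' : ρ g⁻¹ v = c⁻¹ • v := by
    have := congrArg (ρ g⁻¹) hc
    rw [rho_inv_apply, map_smul] at this
    conv_rhs => rw [this, smul_smul, inv_mul_cancel₀ hc0, one_smul]
  have hd' : ρ h⁻¹ v = d⁻¹ • v := by
    have := congrArg (ρ h⁻¹) hd
    rw [rho_inv_apply, map_smul] at this
    conv_rhs => rw [this, smul_smul, inv_mul_cancel₀ hd0, one_smul]
  simp only [map_mul, Module.End.mul_apply, hd', hc', hc, hd, map_smul, smul_smul]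
  conv_rhs => rw [← one_smul ℂ v]
  congr 1
  field_simp

/-- With one-dimensional eigenspaces some line carries more than the common part. -/
theorem exists_line_lt (hn : 3 ≤ n) (hU : IsUnitary ρ) (hψ : ψ ≠ 1)
    (ht : 5 ≤ n ∨ (n = 4 ∧ ∃ s : F, s ≠ 0 ∧ s * s ≠ 1) ∨ (n = 3 ∧ ∃ s : F, s ≠ 0 ∧ s * s * s ≠ 1))
    {x z : Vec n F} (hx : x ≠ 0) (hz : z ∉ Submodule.span F {x})
    (hm : finrank ℂ ((Csp ρ (Submodule.span F {x}))ᗮ ⊓ Esp ρ ψ (Submodule.span F {x}) x z : Submodule ℂ V) = 1) :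
    ∃ l : Submodule F (Vec n F), finrank F l = 2 ∧ W0sp ρ l ≠ Wsp ρ l := by
  set p := Submodule.span F {x} with hp
  have hxp : x ∈ p := Submodule.mem_span_singleton_self x
  have hp1 : finrank F p = 1 := finrank_span_singleton hx
  set E := (Csp ρ p)ᗮ ⊓ Esp ρ ψ p x z with hE
  obtain ⟨⟨v, hvE⟩, hv0, hall⟩ := finrank_eq_one_iff'.mp hm
  have heig : ∀ (g : SLn n F) (s : F), s ≠ 0 → act g x = s • x → s⁻¹ • act g z - z ∈ p → ∃ c : ℂ, ρ g v = c • v := by
    intro g s hs hgx hgz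
    have hmv : moveS g p = p := by
      rw [hp, moveS_span, Set.image_singleton, hgx]
      exact Submodule.span_singleton_smul_eq (IsUnit.mk0 s hs) x
    have hmem : ρ g v ∈ E := by
      refine ⟨mem_Csp_orth_of_moveS hU hmv hvE.1, ?_⟩
      rw [← Esp_congr hgz]
      refine map_Esp_le hs (fun y hy => ?_) hgx hvE.2
      obtain ⟨c, rfl⟩ := Submodule.mem_span_singleton.mp hy
      rw [act_smul, hgx]
      exact p.smul_mem _ (p.smul_mem _ hxp)
    obtain ⟨c, hc⟩ := hall ⟨_, hmem⟩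
    exact ⟨c, (congrArg Subtype.val hc).symm⟩
  set l := p ⊔ Submodule.span F {z} with hl
  have hl2 : finrank F l = 2 := by rw [hl, Submodule.finrank_sup_span_singleton hz, hp1]
  have hxl : x ∈ l := Submodule.mem_sup_left hxp
  have hzl : z ∈ l := Submodule.mem_sup_right (Submodule.mem_span_singleton_self z)
  have heigl : ∀ g ∈ FX l, ∃ c : ℂ, ρ g v = c • v := fun g hg => heig g 1 one_ne_zero
    (by rw [one_smul, FX_fix hg x hxl]) (by rw [inv_one, one_smul, FX_fix hg z hzl, sub_self]; exact p.zero_mem)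
  have hTK : ∀ a φ (h : φ ⬝ᵥ a = 0), (∀ y ∈ l, φ ⬝ᵥ y = 0) → tv a φ h ∈ FX l := fun a φ h hφ =>
    Subgroup.subset_closure ⟨a, φ, h, hφ, rfl⟩
  -- commutators
  have hcomm : ∀ a φ (h : φ ⬝ᵥ a = 0), (∀ y ∈ l, φ ⬝ᵥ y = 0) →
      finrank F (l ⊔ Submodule.span F {a} : Submodule F (Vec n F)) + 2 ≤ n → ρ (tv a φ h) v = v := by
    intro a φ h hφ hdim
    obtain ⟨b, hb, hbn⟩ := exists_ker_not_mem hdim φ
    obtain ⟨χ, hχ, hχb⟩ := exists_functional hbn
    have hχa : χ ⬝ᵥ a = 0 := hχ a (Submodule.mem_sup_right (Submodule.mem_span_singleton_self a))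
    have e := (tv_commutator hχa hb h).trans (tv_congr (a' := a) (φ' := φ) rfl (by rw [hχb, one_smul]) _ h)
    rw [← e]
    exact commutator_fix (heigl _ (hTK _ _ hχa fun y hy => hχ y (Submodule.mem_sup_left hy)))
      (heigl _ (hTK _ _ hb hφ))
  have hcx : ∀ c : F, ∀ φ (h : φ ⬝ᵥ (c • x) = 0), (∀ y ∈ l, φ ⬝ᵥ y = 0) → ρ (tv (c • x) φ h) v = v := by
    intro c φ h hφ
    have h' : (c • φ) ⬝ᵥ x = 0 := by rw [smul_dotProduct, hφ x hxl, smul_zero]
    rw [tv_smul c x φ h h', hvE.2 _ (fun y hy => by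
      rw [smul_dotProduct, hφ y (Submodule.mem_sup_left hy), smul_zero]) h']
    rw [smul_dotProduct, hφ z hzl, smul_zero, AddChar.map_zero_eq_one, one_smul]
  -- transvections centred at multiples of `z`
  have hcz : ∀ (φ : Vec n F) (h : φ ⬝ᵥ z = 0), (∀ y ∈ l, φ ⬝ᵥ y = 0) → ρ (tv z φ h) v = v := by
    intro φ h hφ
    rcases le_or_gt 4 n with h4 | h4
    · exact hcomm z φ h hφ (by rw [sup_eq_left.mpr ((Submodule.span_singleton_le_iff_mem z l).mpr hzl), hl2]; omega)
    rcases eq_or_ne φ 0 with rfl | hφ0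
    · rw [tv_zero, map_one, Module.End.one_apply]
    obtain ⟨n3, s, hs, hs3⟩ : n = 3 ∧ ∃ s : F, s ≠ 0 ∧ s * s * s ≠ 1 := by
      rcases ht with h5 | ⟨h44, -⟩ | h3
      · omega
      · omega
      · exact h3
    obtain ⟨y, hy⟩ : ∃ y, φ ⬝ᵥ y = 1 := by
      obtain ⟨y, hy⟩ : ∃ y, φ ⬝ᵥ y ≠ 0 := by
        by_contra hcon
        push_neg at hcon
        exact hφ0 (dotProduct_eq _ _ fun w => by rw [hcon w, zero_dotProduct])
      exact ⟨(φ ⬝ᵥ y)⁻¹ • y, by rw [dotProduct_smul, smul_eq_mul, inv_mul_cancel₀ hy]⟩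
    obtain ⟨α, hα, hαx⟩ := exists_functional (W := Submodule.span F {z} ⊔ Submodule.span F {y}) (x := x) (by
      intro hmem
      obtain ⟨u, hu, w, hw, huw⟩ := Submodule.mem_sup.mp hmem
      obtain ⟨c, rfl⟩ := Submodule.mem_span_singleton.mp hu
      obtain ⟨d, rfl⟩ := Submodule.mem_span_singleton.mp hw
      have := congrArg (φ ⬝ᵥ ·) huw
      simp only [dotProduct_add, dotProduct_smul, h, hy, hφ x hxl, smul_eq_mul, mul_zero, mul_one, zero_add] at this
      rw [this, zero_smul, add_zero] at huw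
      apply hz
      have hc : c ≠ 0 := fun e => hx (by rw [← huw, e, zero_smul])
      exact Submodule.mem_span_singleton.mpr ⟨c⁻¹, by rw [← huw, inv_smul_smul₀ hc]⟩)
    obtain ⟨γ, hγ, hγz⟩ := exists_functional (W := p ⊔ Submodule.span F {y}) (x := z) (by
      intro hmem
      obtain ⟨u, hu, w, hw, huw⟩ := Submodule.mem_sup.mp hmem
      obtain ⟨d, rfl⟩ := Submodule.mem_span_singleton.mp hw
      have := congrArg (φ ⬝ᵥ ·) huw
      simp only [dotProduct_add, dotProduct_smul, h, hy, hφ u (Submodule.mem_sup_left hu), smul_eq_mul, mul_one,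
        zero_add] at this
      rw [this, zero_smul, add_zero] at huw
      exact hz (huw ▸ hu))
    have hαz : α ⬝ᵥ z = 0 := hα _ (Submodule.mem_sup_left (Submodule.mem_span_singleton_self z))
    have hαy : α ⬝ᵥ y = 0 := hα _ (Submodule.mem_sup_right (Submodule.mem_span_singleton_self y))
    have hγx : γ ⬝ᵥ x = 0 := hγ _ (Submodule.mem_sup_left hxp)
    have hγy : γ ⬝ᵥ y = 0 := hγ _ (Submodule.mem_sup_right (Submodule.mem_span_singleton_self y))
    obtain ⟨t₁, -, ht₁⟩ := exists_torus (S := (⊥ : Submodule F (Vec n F))) hαx hαy (hφ x hxl) hy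
      (fun w hw => by rw [(Submodule.mem_bot F).mp hw, dotProduct_zero])
      (fun w hw => by rw [(Submodule.mem_bot F).mp hw, dotProduct_zero]) hs
    obtain ⟨t₂, -, ht₂⟩ := exists_torus (S := (⊥ : Submodule F (Vec n F))) hγz hγy h hy
      (fun w hw => by rw [(Submodule.mem_bot F).mp hw, dotProduct_zero])
      (fun w hw => by rw [(Submodule.mem_bot F).mp hw, dotProduct_zero]) hs
    obtain ⟨t, htdef⟩ : ∃ t, t = t₁ * t₂ := ⟨_, rfl⟩
    have htx : act t x = s • x := by
      rw [htdef, act_mul, ht₂, hγx, hφ x hxl]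
      simp only [mul_zero, zero_smul, add_zero]
      rw [ht₁, hαx, hφ x hxl]
      simp only [mul_one, mul_zero, zero_smul, add_zero, sub_smul, one_smul]
      abel
    have htz : act t z = s • z := by
      rw [htdef, act_mul, ht₂, hγz, h]
      simp only [mul_one, mul_zero, zero_smul, add_zero, sub_smul, one_smul]
      rw [show z + (s • z - z) = s • z by abel, act_smul, ht₁, hαz, h]
      simp
    have hφt : ∀ w, φ ⬝ᵥ act t w = s⁻¹ * s⁻¹ * (φ ⬝ᵥ w) := by
      intro w
      simp only [htdef, act_mul, ht₁, ht₂, dotProduct_add, dotProduct_smul, hφ x hxl, h, hy, smul_eq_mul]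
      ring
    set c := (s * s * s - 1)⁻¹ with hc
    have hcz' : (c • φ) ⬝ᵥ z = 0 := by rw [smul_dotProduct, h, smul_zero]
    have e : t * tv z (c • φ) hcz' * t⁻¹ * (tv z (c • φ) hcz')⁻¹ = tv z φ h := by
      rw [mul_inv_eq_iff_eq_mul, mul_inv_eq_iff_eq_mul]
      refine act_ext fun w => ?_
      rw [act_mul, act_mul, act_mul, act_tv, act_tv, act_tv, act_add, act_smul, htz]
      simp only [smul_dotProduct, dotProduct_add, dotProduct_smul, h, hφt, smul_eq_mul]
      have hkey : c * (s * s * s) = c + 1 := by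
        have hne : s * s * s - 1 ≠ 0 := sub_ne_zero.mpr hs3
        linear_combination (inv_mul_cancel₀ hne : c * (s * s * s - 1) = 1)
      match_scalars <;> field_simp <;> first | linear_combination (φ ⬝ᵥ w) * hkey | ring
    rw [← e]
    exact commutator_fix (heig t s hs htx (by rw [htz, inv_smul_smul₀ hs, sub_self]; exact p.zero_mem))
      (heigl _ (hTK _ _ hcz' fun w hw => by rw [smul_dotProduct, hφ w hw, smul_zero]))
  -- all generators
  have hvW : v ∈ Wsp ρ l := by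
    rintro g ⟨a, φ, h, hφ, rfl⟩
    by_cases hal : a ∈ l
    · obtain ⟨u, hu, w, hw, huw⟩ := Submodule.mem_sup.mp hal
      obtain ⟨c, rfl⟩ := Submodule.mem_span_singleton.mp hu
      obtain ⟨d, rfl⟩ := Submodule.mem_span_singleton.mp hw
      have h1 : φ ⬝ᵥ (c • x) = 0 := by rw [dotProduct_smul, hφ x hxl, smul_zero]
      have h2 : φ ⬝ᵥ (d • z) = 0 := by rw [dotProduct_smul, hφ z hzl, smul_zero]
      have h3 : (d • φ) ⬝ᵥ z = 0 := by rw [smul_dotProduct, hφ z hzl, smul_zero]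
      rw [tv_congr huw.symm rfl h (by rw [dotProduct_add, h1, h2, add_zero]), ← tv_mul_center h1 h2, map_mul,
        Module.End.mul_apply, tv_smul d z φ h2 h3,
        hcz _ h3 (fun y hy => by rw [smul_dotProduct, hφ y hy, smul_zero]), hcx c φ h1 hφ]
    · rcases eq_or_ne φ 0 with rfl | hφ0
      · rw [tv_zero, map_one, Module.End.one_apply]
      have hla : finrank F (l ⊔ Submodule.span F {a} : Submodule F (Vec n F)) = 3 := by
        rw [Submodule.finrank_sup_span_singleton hal, hl2]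
      rcases ht with h5 | ⟨h4, s, hs, hs2⟩ | ⟨h3, -⟩
      · exact hcomm a φ h hφ (by omega)
      · obtain ⟨b, hb⟩ : ∃ y, φ ⬝ᵥ y = 1 := by
          obtain ⟨y, hy⟩ : ∃ y, φ ⬝ᵥ y ≠ 0 := by
            by_contra hcon
            push_neg at hcon
            exact hφ0 (dotProduct_eq _ _ fun w => by rw [hcon w, zero_dotProduct])
          exact ⟨(φ ⬝ᵥ y)⁻¹ • y, by rw [dotProduct_smul, smul_eq_mul, inv_mul_cancel₀ hy]⟩
        obtain ⟨α, hα, hαa⟩ := exists_functional (W := l ⊔ Submodule.span F {b}) (x := a) (by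
          intro hmem
          obtain ⟨u, hu, w, hw, huw⟩ := Submodule.mem_sup.mp hmem
          obtain ⟨d, rfl⟩ := Submodule.mem_span_singleton.mp hw
          have := congrArg (φ ⬝ᵥ ·) huw
          simp only [dotProduct_add, dotProduct_smul, h, hb, hφ u hu, smul_eq_mul, mul_one, zero_add] at this
          rw [this, zero_smul, add_zero] at huw
          exact hal (huw ▸ hu))
        obtain ⟨t, htm, ht'⟩ := exists_torus (S := l) hαa (hα _ (Submodule.mem_sup_right
          (Submodule.mem_span_singleton_self b))) h hb (fun y hy => hα y (Submodule.mem_sup_left hy)) hφ hs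
        have hta : act t a = s • a := by
          rw [ht', hαa, h]; simp [sub_smul]
        have hφt : ∀ w, φ ⬝ᵥ act t w = s⁻¹ * (φ ⬝ᵥ w) := by
          intro w; rw [ht']; simp only [dotProduct_add, dotProduct_smul, h, hb, smul_eq_mul]; ring
        set c := (s * s - 1)⁻¹ with hc
        have hca : (c • φ) ⬝ᵥ a = 0 := by rw [smul_dotProduct, h, smul_zero]
        have e : t * tv a (c • φ) hca * t⁻¹ * (tv a (c • φ) hca)⁻¹ = tv a φ h := by
          rw [mul_inv_eq_iff_eq_mul, mul_inv_eq_iff_eq_mul]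
          refine act_ext fun w => ?_
          rw [act_mul, act_mul, act_mul, act_tv, act_tv, act_tv, act_add, act_smul, hta]
          simp only [smul_dotProduct, dotProduct_add, dotProduct_smul, h, hφt, smul_eq_mul]
          have hkey : c * (s * s) = c + 1 := by
            have hne : s * s - 1 ≠ 0 := sub_ne_zero.mpr hs2
            linear_combination (inv_mul_cancel₀ hne : c * (s * s - 1) = 1)
          match_scalars <;> field_simp <;> first | linear_combination (φ ⬝ᵥ w) * hkey | ring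
        rw [← e]
        exact commutator_fix (heigl t htm) (heigl _ (hTK _ _ hca fun w hw => by rw [smul_dotProduct, hφ w hw, smul_zero]))
      · -- in rank three the centre lies on the line
        exfalso
        have h1 := (ofVec φ).finrank_range_add_finrank_ker
        rw [finrank_fin_fun] at h1
        have h2 : (ofVec φ).range ≠ ⊥ := fun e => hφ0 (dotProduct_eq _ _ fun w => by
          have : ofVec φ w ∈ (ofVec φ).range := LinearMap.mem_range_self _ w
          rw [e, Submodule.mem_bot] at this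
          rw [zero_dotProduct]; exact this)
        have h2' : finrank F (ofVec φ).range ≠ 0 := fun e => h2 (Submodule.finrank_eq_zero.mp e)
        have h4 : l ⊔ Submodule.span F {a} ≤ (ofVec φ).ker := sup_le (fun y hy => hφ y hy)
          ((Submodule.span_singleton_le_iff_mem _ _).mpr h)
        have := Submodule.finrank_mono h4
        omega
  refine ⟨l, hl2, fun heq => hv0 (Subtype.ext ?_)⟩
  rw [← heq] at hvW
  have hvC : v ∈ Csp ρ p := fun g hg => hvW.2 g ⟨p, hp1, le_sup_left, hg⟩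
  exact (Submodule.eq_bot_iff _).mp (Submodule.inf_orthogonal_eq_bot (Csp ρ p)) v ⟨hvC, hvE.1⟩

/-- For `n ≥ 4` invariant parts of `C p` are large. -/
theorem delta_bound (hn : 4 ≤ n) (hU : IsUnitary ρ) (hψ : ψ ≠ 1) {p : Submodule F (Vec n F)}
    (hp : finrank F p = 1) (hW : Wsp ρ p = ⊥) {Y : Submodule ℂ V} (hY : Y ≤ Csp ρ p) (hY0 : Y ≠ ⊥)
    (hinv : Invariant ρ (FX p) Y) : Fintype.card F ^ (n - 2) - 1 ≤ finrank ℂ Y := by
  obtain ⟨a, φ, h, hφ, y, hy, hne⟩ : ∃ a φ, ∃ h : φ ⬝ᵥ a = 0, (∀ x ∈ p, φ ⬝ᵥ x = 0) ∧ ∃ y ∈ Y, ρ (tv a φ h) y ≠ y := by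
    by_contra hcon
    push_neg at hcon
    apply hY0
    rw [← le_bot_iff, ← hW]
    rintro y hy g ⟨a, φ, h, hφ, rfl⟩
    exact hcon a φ h hφ y hy
  have hap : a ∉ p := fun hap => hne (hY hy _ ⟨a, φ, h, hap, hφ, rfl⟩)
  set S := p ⊔ Submodule.span F {a} with hS
  have hS2 : finrank F S = 2 := by rw [hS, Submodule.finrank_sup_span_singleton hap, hp]
  have haS : a ∈ S := Submodule.mem_sup_right (Submodule.mem_span_singleton_self a)
  have hSp : FX S ≤ FX p := Subgroup.closure_mono (TK_anti le_sup_left)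
  have hle : ∀ z₁ z₂, z₁ ∉ S → z₂ ∉ S →
      finrank ℂ (Y ⊓ Esp ρ ψ S a z₁ : Submodule ℂ V) ≤ finrank ℂ (Y ⊓ Esp ρ ψ S a z₂ : Submodule ℂ V) := by
    intro z₁ z₂ h₁ h₂
    obtain ⟨g, hg, hgz⟩ := exists_move h₁ h₂ (ne_top_of_finrank_lt (by
      rw [Submodule.finrank_sup_span_singleton h₁, hS2]; omega))
    refine finrank_Esp_le (g := g) (s := 1) one_ne_zero (fun w hw => by rwa [FX_fix hg w hw])
      (by rw [FX_fix hg a haS, one_smul]) (fun v hv => hinv g (hSp hg) v hv) ?_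
    rw [inv_one, one_smul, hgz, sub_self]
    exact S.zero_mem
  obtain ⟨z, -, hz⟩ := SetLike.exists_of_lt (ne_top_of_finrank_lt (n := n) (S := S) (by omega)).lt_top
  set m := finrank ℂ (Y ⊓ Esp ρ ψ S a z : Submodule ℂ V) with hm
  have hTinv : ∀ φ : Vec n F, (∀ x ∈ S, φ ⬝ᵥ x = 0) → ∀ h : φ ⬝ᵥ a = 0, ∀ v ∈ Y, ρ (tv a φ h) v ∈ Y :=
    fun φ hφ h v hv => hinv _ (Subgroup.subset_closure ⟨a, φ, h, fun x hx => hφ x (Submodule.mem_sup_left hx), rfl⟩) v hv
  have heq := finrank_eq_of_uniform hU hψ haS (Z := Y) hTinv (m := m)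
    (fun z' hz' => le_antisymm (hle z' z hz' hz) (hle z z' hz hz'))
  rw [hS2] at heq
  have hm0 : 1 ≤ m := by
    rcases Nat.eq_zero_or_pos m with h0 | h0
    · exfalso
      rw [h0, mul_zero, add_zero] at heq
      have he : Y ⊓ Esp ρ ψ S a 0 = Y := Submodule.eq_of_le_of_finrank_eq inf_le_left heq.symm
      apply hne
      have hy' : y ∈ Esp ρ ψ S a 0 := (he.ge hy).2
      have hφS : ∀ w ∈ S, φ ⬝ᵥ w = 0 := fun w hw => by
        obtain ⟨u, hu, c', hc', rfl⟩ := Submodule.mem_sup.mp hw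
        obtain ⟨c, rfl⟩ := Submodule.mem_span_singleton.mp hc'
        rw [dotProduct_add, dotProduct_smul, hφ u hu, h, smul_zero, add_zero]
      rw [hy' φ hφS h, dotProduct_zero, AddChar.map_zero_eq_one, one_smul]
    · exact h0
  rw [heq]
  exact le_trans (Nat.le_mul_of_pos_right _ hm0) (Nat.le_add_left _ _)

/-- In rank three a flag part makes `C p` large. -/
theorem three_bound (hn : n = 3) (hU : IsUnitary ρ) (hψ : ψ ≠ 1) (f : Flag n F) (hW : Wsp ρ f.1.1 = ⊥)
    (hf : E1 ρ f.1.1 f.1.2 ≠ ⊥) : Fintype.card F ≤ finrank ℂ (Csp ρ f.1.1) := by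
  obtain ⟨⟨p, l⟩, hp, hl, hpl⟩ := f
  simp only at hp hl hpl hW hf ⊢
  obtain ⟨w, hw, hw0⟩ := (Submodule.ne_bot_iff _).mp hf
  obtain ⟨x, hx, hpx⟩ := exists_point_vec hp
  have hxp : x ∈ p := hpx ▸ Submodule.mem_span_singleton_self x
  have hmvp : ∀ g ∈ FX p, moveS g p = p := fun g hg => moveS_eq_of_fix hg
  obtain ⟨a, φ, h, hφ, y, hy, hne⟩ : ∃ a φ, ∃ h : φ ⬝ᵥ a = 0, (∀ u ∈ l, φ ⬝ᵥ u = 0) ∧
      ∃ y ∈ Csp ρ p, ρ (tv a φ h) y ≠ y := by
    by_contra hcon
    push_neg at hcon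
    apply hw0
    rw [← Submodule.mem_bot ℂ, ← hW]
    rintro g ⟨a, φ, h, hφ, rfl⟩
    rcases eq_or_ne φ 0 with rfl | hφ0
    · rw [tv_zero, map_one, Module.End.one_apply]
    obtain ⟨u, hu, hup⟩ := exists_ker_not_mem (S := p) (by omega) φ
    set l' := p ⊔ Submodule.span F {u} with hl'
    have hl'2 : finrank F l' = 2 := by rw [hl', Submodule.finrank_sup_span_singleton hup, hp]
    have hφl' : ∀ v ∈ l', φ ⬝ᵥ v = 0 := fun v hv => by
      obtain ⟨v₁, hv₁, v₂, hv₂, rfl⟩ := Submodule.mem_sup.mp hv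
      obtain ⟨c, rfl⟩ := Submodule.mem_span_singleton.mp hv₂
      rw [dotProduct_add, dotProduct_smul, hφ v₁ hv₁, hu, smul_zero, add_zero]
    obtain ⟨y₀, hy₀l, hy₀p⟩ := SetLike.exists_of_lt (lt_of_le_of_ne hpl (fun e => by rw [e, hl] at hp; omega))
    obtain ⟨g, hg, hgy⟩ := exists_move (S := p) hy₀p hup (ne_top_of_finrank_lt (by
      rw [Submodule.finrank_sup_span_singleton hy₀p, hp]; omega))
    have hmv : moveS g l = l' := by
      rw [← sup_span_eq hpl hy₀l hy₀p (by rw [hl, hp]), hl', moveS, Submodule.map_sup]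
      change moveS g p ⊔ moveS g (Submodule.span F {y₀}) = _
      rw [hmvp g hg, moveS_span, Set.image_singleton, hgy]
    have hall : Csp ρ p ≤ Wsp ρ l := by
      rintro v hv t ⟨a', φ', h', hφ'', rfl⟩
      exact hcon a' φ' h' hφ'' v hv
    have hall' : Csp ρ p ≤ Wsp ρ l' := by
      rw [← hmv, ← map_Wsp, ← hmvp g hg, ← map_Csp]
      exact Submodule.map_mono hall
    exact hall' hw.1.2 _ ⟨a, φ, h, hφl', rfl⟩
  have hal : a ∈ l := by
    rcases eq_or_ne φ 0 with rfl | hφ0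
    · exact absurd (by rw [tv_zero, map_one, Module.End.one_apply]) hne
    by_contra hal
    have h1 := (ofVec φ).finrank_range_add_finrank_ker
    rw [finrank_fin_fun] at h1
    have h2 : finrank F (ofVec φ).range ≠ 0 := fun e => hφ0 (dotProduct_eq _ _ fun u => by
      have : ofVec φ u ∈ (ofVec φ).range := LinearMap.mem_range_self _ u
      rw [Submodule.finrank_eq_zero.mp e, Submodule.mem_bot] at this
      rw [zero_dotProduct]; exact this)
    have h4 : l ⊔ Submodule.span F {a} ≤ (ofVec φ).ker := sup_le (fun u hu => hφ u hu)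
      ((Submodule.span_singleton_le_iff_mem _ _).mpr h)
    have h5 := Submodule.finrank_mono h4
    rw [Submodule.finrank_sup_span_singleton hal, hl] at h5
    omega
  have hap : a ∉ p := fun hap => hne (hy _ ⟨a, φ, h, hap, fun u hu => hφ u (hpl hu), rfl⟩)
  have hTinv : ∀ φ : Vec n F, (∀ u ∈ l, φ ⬝ᵥ u = 0) → ∀ h : φ ⬝ᵥ a = 0, ∀ v ∈ Csp ρ p, ρ (tv a φ h) v ∈ Csp ρ p :=
    fun φ hφ h v hv => mem_Csp_of_moveS (hmvp _ (Subgroup.subset_closure ⟨a, φ, h, fun u hu => hφ u (hpl hu), rfl⟩)) hv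
  obtain ⟨z, -, hzl⟩ := SetLike.exists_of_lt (ne_top_of_finrank_lt (n := n) (S := l) (by omega)).lt_top
  have hla : l = p ⊔ Submodule.span F {a} := (sup_span_eq hpl hal hap (by rw [hl, hp])).symm
  have htop : l ⊔ Submodule.span F {z} = ⊤ := Submodule.eq_top_of_finrank_eq (by
    rw [Submodule.finrank_sup_span_singleton hzl, hl, finrank_fin_fun, hn])
  obtain ⟨α, hα, hαa⟩ := exists_functional (W := p ⊔ Submodule.span F {z}) (x := a) (by
    intro hmem
    obtain ⟨u, hu, w', hw', huw⟩ := Submodule.mem_sup.mp hmem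
    obtain ⟨c, rfl⟩ := Submodule.mem_span_singleton.mp hw'
    rcases eq_or_ne c 0 with rfl | hc
    · rw [zero_smul, add_zero] at huw; exact hap (huw ▸ hu)
    · apply hzl
      rw [show z = c⁻¹ • (a - u) by rw [← huw, add_sub_cancel_left, inv_smul_smul₀ hc]]
      exact l.smul_mem _ (l.sub_mem hal (hpl hu)))
  obtain ⟨β, hβ, hβx⟩ := exists_functional (W := Submodule.span F {a} ⊔ Submodule.span F {z}) (x := x) (by
    intro hmem
    obtain ⟨u, hu, w', hw', huw⟩ := Submodule.mem_sup.mp hmem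
    obtain ⟨c, rfl⟩ := Submodule.mem_span_singleton.mp hu
    obtain ⟨d, rfl⟩ := Submodule.mem_span_singleton.mp hw'
    rcases eq_or_ne d 0 with rfl | hd
    · rw [zero_smul, add_zero] at huw
      apply hap
      have hc : c ≠ 0 := fun e => hx (by rw [← huw, e, zero_smul])
      rw [show a = c⁻¹ • x by rw [← huw, inv_smul_smul₀ hc]]
      exact p.smul_mem _ hxp
    · apply hzl
      rw [show z = d⁻¹ • (x - c • a) by rw [← huw, add_sub_cancel_left, inv_smul_smul₀ hd]]
      exact l.smul_mem _ (l.sub_mem (hpl hxp) (l.smul_mem _ hal)))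
  have hcoord : ∀ z', z' ∉ l → ∃ d : F, d ≠ 0 ∧ z' - d • z ∈ l := by
    intro z' hz'
    obtain ⟨u, hu, w', hw', huw⟩ := Submodule.mem_sup.mp (htop ▸ Submodule.mem_top : z' ∈ l ⊔ Submodule.span F {z})
    obtain ⟨d, rfl⟩ := Submodule.mem_span_singleton.mp hw'
    refine ⟨d, fun e => hz' ?_, by rw [← huw, add_sub_cancel_right]; exact hu⟩
    rw [← huw, e, zero_smul, add_zero]; exact hu
  have hle : ∀ z₁ z₂, z₁ ∉ l → z₂ ∉ l →
      finrank ℂ (Csp ρ p ⊓ Esp ρ ψ l a z₁ : Submodule ℂ V) ≤ finrank ℂ (Csp ρ p ⊓ Esp ρ ψ l a z₂ : Submodule ℂ V) := by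
    intro z₁ z₂ h₁ h₂
    obtain ⟨d₁, hd₁, e₁⟩ := hcoord z₁ h₁
    obtain ⟨d₂, hd₂, e₂⟩ := hcoord z₂ h₂
    set s := d₁ / d₂ with hs
    have hs0 : s ≠ 0 := div_ne_zero hd₁ hd₂
    have hαx : α ⬝ᵥ x = 0 := hα x (Submodule.mem_sup_left hxp)
    have hαz : α ⬝ᵥ z = 0 := hα z (Submodule.mem_sup_right (Submodule.mem_span_singleton_self z))
    have hβa : β ⬝ᵥ a = 0 := hβ a (Submodule.mem_sup_left (Submodule.mem_span_singleton_self a))
    have hβz : β ⬝ᵥ z = 0 := hβ z (Submodule.mem_sup_right (Submodule.mem_span_singleton_self z))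
    obtain ⟨t, -, ht⟩ := exists_torus (S := (⊥ : Submodule F (Vec n F))) hαa hαx hβa hβx
      (fun u hu => by rw [(Submodule.mem_bot F).mp hu, dotProduct_zero])
      (fun u hu => by rw [(Submodule.mem_bot F).mp hu, dotProduct_zero]) hs0
    have hta : act t a = s • a := by rw [ht, hαa, hβa]; simp [sub_smul]
    have htx : act t x = s⁻¹ • x := by rw [ht, hαx, hβx]; simp [sub_smul]
    have htz : act t z = z := by rw [ht, hαz, hβz]; simp
    have htl : ∀ u ∈ l, act t u ∈ l := by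
      intro u hu
      rw [ht]
      exact l.add_mem (l.add_mem hu (l.smul_mem _ hal)) (l.smul_mem _ (hpl hxp))
    have hmv : moveS t p = p := by
      rw [hpx, moveS_span, Set.image_singleton, htx]
      exact Submodule.span_singleton_smul_eq (IsUnit.mk0 _ (inv_ne_zero hs0)) x
    refine finrank_Esp_le (g := t) hs0 htl hta (fun v hv => mem_Csp_of_moveS hmv hv) ?_
    have e : s⁻¹ • act t z₁ - z₂ = s⁻¹ • act t (z₁ - d₁ • z) - (z₂ - d₂ • z) := by
      rw [show act t (z₁ - d₁ • z) = act t z₁ - d₁ • z by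
        rw [show z₁ - d₁ • z = z₁ + (-d₁) • z by module, act_add, act_smul, htz]; module]
      have : s⁻¹ * d₁ = d₂ := by rw [hs]; field_simp
      rw [smul_sub, smul_smul, this]; abel
    rw [e]
    exact l.sub_mem (l.smul_mem _ (htl _ e₁)) e₂
  set m := finrank ℂ (Csp ρ p ⊓ Esp ρ ψ l a z : Submodule ℂ V) with hm
  have heq := finrank_eq_of_uniform hU hψ hal (Z := Csp ρ p) hTinv (m := m)
    (fun z' hz' => le_antisymm (hle z' z hz' hzl) (hle z z' hzl hz'))
  rw [hl, show n - 2 = 1 by omega, pow_one] at heq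
  have hm0 : 1 ≤ m := by
    rcases Nat.eq_zero_or_pos m with h0 | h0
    · exfalso
      rw [h0, mul_zero, add_zero] at heq
      have he : Csp ρ p ⊓ Esp ρ ψ l a 0 = Csp ρ p := Submodule.eq_of_le_of_finrank_eq inf_le_left heq.symm
      apply hne
      rw [(he.ge hy).2 φ hφ h, dotProduct_zero, AddChar.map_zero_eq_one, one_smul]
    · exact h0
  have h1 : 1 ≤ finrank ℂ (Csp ρ p ⊓ Esp ρ ψ l a 0 : Submodule ℂ V) := by
    rw [Nat.one_le_iff_ne_zero, ne_eq, Submodule.finrank_eq_zero]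
    intro hb
    apply hw0
    rw [← Submodule.mem_bot ℂ, ← hb]
    refine ⟨hw.1.2, fun φ' hφ' h' => ?_⟩
    rw [dotProduct_zero, AddChar.map_zero_eq_one, one_smul]
    exact hw.1.1 _ ⟨a, φ', h', hφ', rfl⟩
  have h2 : Fintype.card F - 1 ≤ (Fintype.card F - 1) * m := Nat.le_mul_of_pos_right _ hm0
  have h3 : 1 < Fintype.card F := Fintype.one_lt_card
  omega

end

end Cfsg.Agent.Lib.KnownA.LS
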