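import Mathlib
import Cfsg.Agent.Lib.KnownA.LS.Structure
import Cfsg.Agent.Lib.Characters.Integrality
import Cfsg.Agent.Lib.Characters.Values
import Cfsg.Agent.Lib.Classical.LinearCard

/-! The smallest degree of a nontrivial unitary representation of `SL_n`. -/

set_option autoImplicit false
set_option maxHeartbeats 400000

namespace Cfsg.Agent.Lib.KnownA.LS

open Module Matrix
open scoped ComplexInnerProductSpace

set_option linter.unusedSectionVars false

noncomputable section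

section sub

variable {H : Type*} [Group H] {V : Type*} [NormedAddCommGroup V] [InnerProductSpace ℂ V] [FiniteDimensional ℂ V]
  (σ : Representation ℂ H V) (Y : Submodule ℂ V) (hY : ∀ g, ∀ v ∈ Y, σ g v ∈ Y)

/-- The restriction to an invariant subspace. -/
def subRep : Representation ℂ H Y where
  toFun g := (σ g).restrict (hY g)
  map_one' := LinearMap.ext fun v => Subtype.ext (by simp)
  map_mul' g h := LinearMap.ext fun v => Subtype.ext (by simp [LinearMap.restrict_apply])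

theorem subRep_apply (g : H) (v : Y) : ((subRep σ Y hY g v : Y) : V) = σ g v := rfl

theorem subRep_irreducible (hY0 : Y ≠ ⊥)
    (hmin : ∀ Z : Submodule ℂ V, Z ≤ Y → Z ≠ ⊥ → (∀ g, ∀ v ∈ Z, σ g v ∈ Z) → Z = Y) :
    (subRep σ Y hY).IsIrreducible := by
  haveI : Nontrivial (Subrepresentation (subRep σ Y hY)) := ⟨⟨⊥, ⊤, fun h => hY0 (by
    rw [Submodule.eq_bot_iff]
    intro v hv
    have : (⟨v, hv⟩ : Y) ∈ (⊥ : Subrepresentation (subRep σ Y hY)).toSubmodule := by rw [h]; trivial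
    exact congrArg Subtype.val ((Submodule.mem_bot ℂ).mp this))⟩⟩
  refine ⟨fun S => ?_⟩
  by_cases h : S.toSubmodule = ⊥
  · exact Or.inl (Subrepresentation.toSubmodule_injective h)
  right
  apply Subrepresentation.toSubmodule_injective
  have := hmin (S.toSubmodule.map Y.subtype) (Submodule.map_subtype_le Y _)
    (fun e => h (Submodule.map_injective_of_injective Y.injective_subtype (by rw [e, Submodule.map_bot])))
    (by rintro g _ ⟨w, hw, rfl⟩; exact ⟨_, S.apply_mem_toSubmodule g hw, rfl⟩)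
  show S.toSubmodule = ⊤
  exact Submodule.map_injective_of_injective Y.injective_subtype (by rw [this, Submodule.map_top, Submodule.range_subtype])

theorem subRep_unitary (hU : IsUnitary σ) : IsUnitary (subRep σ Y hY) := fun g v w => hU g v w

end sub

variable {n : ℕ} {F : Type*} [Field F] [Fintype F] {V : Type*} [NormedAddCommGroup V] [InnerProductSpace ℂ V]
  [FiniteDimensional ℂ V] {ρ : Representation ℂ (SLn n F) V}

theorem pt_le_two_pow (hn : 3 ≤ n) : Nat.card (Pt n F) ≤ 2 * Fintype.card F ^ (n - 1) - 1 := by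
  have hq : 1 < Fintype.card F := Fintype.one_lt_card
  have h := card_Pt (F := F) n
  obtain ⟨r, hr⟩ : ∃ r, Fintype.card F = r + 2 := ⟨_, (Nat.sub_add_cancel hq).symm⟩
  obtain ⟨Q, hQ⟩ : ∃ Q, Fintype.card F ^ (n - 1) = Q + 1 := ⟨_, (Nat.sub_add_cancel (Nat.one_le_pow _ _ (by omega))).symm⟩
  rw [show Fintype.card F ^ n = Fintype.card F * Fintype.card F ^ (n - 1) by
    rw [← pow_succ', Nat.sub_add_cancel (by omega)], hQ, hr, show r + 2 - 1 = r + 1 by omega] at h
  rw [hQ]
  have h' : Nat.card (Pt n F) * (r + 1) + 1 = (r + 2) * (Q + 1) := by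
    have : 1 ≤ (r + 2) * (Q + 1) := Nat.one_le_iff_ne_zero.mpr (by positivity)
    omega
  rw [show 2 * (Q + 1) - 1 = 2 * Q + 1 by omega]
  by_contra hcon
  nlinarith

theorem card_Pt_le_card_Ln (hn : 3 ≤ n) : Nat.card (Pt n F) ≤ Nat.card (Ln n F) := by
  have h1 := card_Flag_line (F := F) (n := n)
  have h2 := card_Flag_pt (F := F) (n := n) (by omega)
  rw [h1] at h2
  have hq : 1 < Fintype.card F := Fintype.one_lt_card
  obtain ⟨r, hr⟩ : ∃ r, Fintype.card F = r + 1 := ⟨_, (Nat.sub_add_cancel hq.le).symm⟩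
  have hpow : (r + 2) * r ≤ Fintype.card F ^ (n - 1) - 1 := by
    have h3 : Fintype.card F ^ 2 ≤ Fintype.card F ^ (n - 1) := Nat.pow_le_pow_right (by omega) (by omega)
    rw [hr] at h3 ⊢
    have : (r + 1) ^ 2 = (r + 2) * r + 1 := by ring
    omega
  rw [hr, show r + 1 - 1 = r by omega, show r + 1 + 1 = r + 2 by omega] at h2
  rw [hr] at hpow
  refine Nat.le_of_mul_le_mul_right ?_ (show 0 < (r + 2) * r by
    have : 0 < r := by omega
    positivity)
  calc Nat.card (Pt n F) * ((r + 2) * r) ≤ Nat.card (Pt n F) * ((r + 1) ^ (n - 1) - 1) := Nat.mul_le_mul_left _ hpow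
    _ = Nat.card (Ln n F) * ((r + 2) * r) := by rw [← h2]; ring

theorem finrank_Csp_const (hn : 3 ≤ n) {p q : Submodule F (Vec n F)} (hp : finrank F p = 1) (hq : finrank F q = 1) :
    finrank ℂ (Csp ρ p) = finrank ℂ (Csp ρ q) := by
  obtain ⟨g, hg⟩ := exists_map_point hn hp hq
  rw [← finrank_map_rho (ρ := ρ) g (Csp ρ p), map_Csp, hg]

theorem exists_unit_pow_ne_one (m : ℕ) (hm : ¬ (Fintype.card F - 1) ∣ m) : ∃ s : F, s ≠ 0 ∧ s ^ m ≠ 1 := by
  obtain ⟨g, hg⟩ := IsCyclic.exists_generator (α := Fˣ)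
  refine ⟨g, g.ne_zero, fun h => hm ?_⟩
  have h' : g ^ m = 1 := Units.ext (by simpa using h)
  have := orderOf_dvd_of_pow_eq_one h'
  rwa [orderOf_eq_card_of_forall_mem_zpowers hg, Nat.card_units, Nat.card_eq_fintype_card] at this

/-- The common part of the argument. -/
theorem small_setup (hn : 3 ≤ n) (hU : IsUnitary ρ) [ρ.IsIrreducible] (hnt : ∃ g v, ρ g v ≠ v)
    (hex : (n, Fintype.card F) ≠ (3, 2) ∧ (n, Fintype.card F) ≠ (3, 4) ∧ (n, Fintype.card F) ≠ (4, 2) ∧ (n, Fintype.card F) ≠ (4, 3))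
    (hsmall : finrank ℂ V + 2 ≤ Nat.card (Pt n F)) :
    (∀ p : Submodule F (Vec n F), finrank F p = 1 → Wsp ρ p = ⊥) ∧ (∃ f : Flag n F, E1 ρ f.1.1 f.1.2 ≠ ⊥) ∧
      ∀ p : Submodule F (Vec n F), finrank F p = 1 →
        finrank ℂ V = finrank ℂ (Csp ρ p) + (Fintype.card F ^ (n - 1) - 1) := by
  obtain ⟨ψ, hψ⟩ := exists_addChar F
  have hW : ∀ p : Submodule F (Vec n F), finrank F p = 1 → Wsp ρ p = ⊥ := fun p hp => by
    by_contra h
    have := lemmaB hn hU hnt hp h
    omega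
  obtain ⟨x, hx⟩ : ∃ x : Vec n F, x ≠ 0 := ⟨Pi.single ⟨0, by omega⟩ 1, fun h => by simpa using congrFun h ⟨0, by omega⟩⟩
  obtain ⟨z, -, hz⟩ := SetLike.exists_of_lt (span_singleton_ne_top hn x).lt_top
  have hstr := orth_structure (ρ := ρ) hn hU hψ hx hz
  have hx1 : finrank F (Submodule.span F {x}) = 1 := finrank_span_singleton hx
  set m := finrank ℂ ((Csp ρ (Submodule.span F {x}))ᗮ ⊓ Esp ρ ψ (Submodule.span F {x}) x z : Submodule ℂ V) with hmdef
  have hm0 : m ≠ 0 := fun h => Csp_ne_top hn hnt hx1 (Submodule.eq_top_of_finrank_eq (by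
    rw [h, mul_zero, add_zero] at hstr; exact hstr.symm))
  have hQ : 3 ≤ Fintype.card F ^ (n - 1) := by
    calc 3 ≤ 2 ^ 2 := by norm_num
      _ ≤ Fintype.card F ^ 2 := Nat.pow_le_pow_left Fintype.one_lt_card 2
      _ ≤ _ := Nat.pow_le_pow_right Fintype.card_pos (by omega)
  have hm1 : m = 1 := by
    by_contra h
    have h2 : 2 * (Fintype.card F ^ (n - 1) - 1) ≤ (Fintype.card F ^ (n - 1) - 1) * m := by
      rw [mul_comm]; exact Nat.mul_le_mul_left _ (by omega)
    have := pt_le_two_pow (F := F) hn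
    omega
  have ht : 5 ≤ n ∨ (n = 4 ∧ ∃ s : F, s ≠ 0 ∧ s * s ≠ 1) ∨ (n = 3 ∧ ∃ s : F, s ≠ 0 ∧ s * s * s ≠ 1) := by
    have hq : 1 < Fintype.card F := Fintype.one_lt_card
    rcases (by omega : 5 ≤ n ∨ n = 4 ∨ n = 3) with h | rfl | rfl
    · exact Or.inl h
    · refine Or.inr (Or.inl ⟨rfl, ?_⟩)
      obtain ⟨s, hs, hs2⟩ := exists_unit_pow_ne_one (F := F) 2 (fun h => by
        have := Nat.le_of_dvd (by norm_num) h
        have h2 := hex.2.2.1; have h3 := hex.2.2.2
        simp only [ne_eq, Prod.mk.injEq, true_and] at h2 h3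
        omega)
      exact ⟨s, hs, by rwa [← sq]⟩
    · refine Or.inr (Or.inr ⟨rfl, ?_⟩)
      obtain ⟨s, hs, hs3⟩ := exists_unit_pow_ne_one (F := F) 3 (fun h => by
        have h2 := hex.1; have h3 := hex.2.1
        simp only [ne_eq, Prod.mk.injEq, true_and] at h2 h3
        rcases (Nat.dvd_prime Nat.prime_three).mp h with h' | h' <;> omega)
      exact ⟨s, hs, by rwa [← pow_three']⟩
  obtain ⟨l, hl, hlt⟩ := exists_line_lt hn hU hψ ht hx hz hm1
  refine ⟨hW, ?_, fun p hp => ?_⟩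
  · rcases engine hn hU hl hlt with h | h
    · have := card_Pt_le_card_Ln (F := F) hn
      omega
    · exact h
  · rw [finrank_Csp_const hn hp hx1, hstr, hm1, mul_one]

/-- Invariant parts of the right size fill up. -/
theorem full_of_small (hU : IsUnitary ρ) {p : Submodule F (Vec n F)} {δ : ℕ}
    (hδ : ∀ Y ≤ Csp ρ p, Y ≠ ⊥ → Invariant ρ (FX p) Y → δ ≤ finrank ℂ Y)
    (hc : finrank ℂ (Csp ρ p) < 2 * δ) {Y : Submodule ℂ V} (hY : Y ≤ Csp ρ p) (hY0 : Y ≠ ⊥)
    (hinv : Invariant ρ (FX p) Y) : Y = Csp ρ p := by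
  have hsum := Submodule.finrank_add_inf_finrank_orthogonal hY
  by_contra hne
  have hne' : Yᗮ ⊓ Csp ρ p ≠ ⊥ := fun h => by
    rw [h, finrank_bot, add_zero] at hsum
    exact hne (Submodule.eq_of_le_of_finrank_eq hY hsum)
  have h1 := hδ Y hY hY0 hinv
  have h2 := hδ _ inf_le_right hne' (fun g hg v hv => ⟨invariant_orthogonal hU hinv g hg v hv.1,
    mem_Csp_of_moveS (moveS_eq_of_fix hg) hv.2⟩)
  omega

theorem dim_dvd_card_FX (hU : IsUnitary ρ) {p : Submodule F (Vec n F)} {δ : ℕ}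
    (hδ : ∀ Y ≤ Csp ρ p, Y ≠ ⊥ → Invariant ρ (FX p) Y → δ ≤ finrank ℂ Y)
    (hc : finrank ℂ (Csp ρ p) < 2 * δ) (hC : Csp ρ p ≠ ⊥) :
    finrank ℂ (Csp ρ p) ∣ Nat.card (FX p) := by
  haveI := subRep_irreducible (ρ.comp (FX p).subtype) (Csp ρ p)
    (fun g v hv => mem_Csp_of_moveS (moveS_eq_of_fix g.2) hv) hC
    (fun Z hZ hZ0 hZi => full_of_small hU hδ hc hZ hZ0 (fun g hg v hv => hZi ⟨g, hg⟩ v hv))
  exact Cfsg.Agent.Lib.Characters.finrank_dvd_card (subRep (ρ.comp (FX p).subtype) (Csp ρ p)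
    (fun g v hv => mem_Csp_of_moveS (moveS_eq_of_fix g.2) hv))

theorem card_eq_orbit_mul_FX (hn : 3 ≤ n) {x : Vec n F} (hx : x ≠ 0) :
    Nat.card (SLn n F) = (Fintype.card F ^ n - 1) * Nat.card (FX (Submodule.span F {x})) := by
  classical
  choose gy hgy using fun y : {y : Vec n F // y ≠ 0} => exists_act_eq hn hx y.2
  have hne : ∀ g : SLn n F, act g x ≠ 0 := fun g h => hx (by
    have := congrArg (act g⁻¹) h
    rwa [act_inv_act, show act g⁻¹ 0 = 0 from (actL g⁻¹).map_zero] at this)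
  have hmem : ∀ g : SLn n F, (gy ⟨act g x, hne g⟩)⁻¹ * g ∈ FX (Submodule.span F {x}) := fun g => by
    refine mem_FX_iff.mpr fun y hy => ?_
    obtain ⟨c, rfl⟩ := Submodule.mem_span_singleton.mp hy
    rw [act_smul, act_mul]
    congr 1
    have h2 : act (gy ⟨act g x, hne g⟩) x = act g x := hgy _
    calc act (gy ⟨act g x, hne g⟩)⁻¹ (act g x) = act (gy ⟨act g x, hne g⟩)⁻¹ (act (gy ⟨act g x, hne g⟩) x) :=
          congrArg _ h2.symm
      _ = x := act_inv_act _ _
  have hfx : ∀ (y : {y : Vec n F // y ≠ 0}) (h : FX (Submodule.span F {x})), act (gy y * h.1) x = y.1 := fun y h => by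
    rw [act_mul, FX_fix h.2 x (Submodule.mem_span_singleton_self x), hgy]
  let e : SLn n F ≃ {y : Vec n F // y ≠ 0} × FX (Submodule.span F {x}) :=
    { toFun := fun g => (⟨act g x, hne g⟩, ⟨_, hmem g⟩)
      invFun := fun t => gy t.1 * t.2.1
      left_inv := fun g => by simp
      right_inv := fun t => by
        have h1 : (⟨act (gy t.1 * t.2.1) x, hne _⟩ : {y : Vec n F // y ≠ 0}) = t.1 := Subtype.ext (hfx t.1 t.2)
        refine Prod.ext h1 (Subtype.ext ?_)
        show (gy ⟨act (gy t.1 * t.2.1) x, hne _⟩)⁻¹ * (gy t.1 * t.2.1) = t.2.1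
        rw [h1, inv_mul_cancel_left] }
  rw [Nat.card_congr e, Nat.card_prod, Nat.card_eq_fintype_card (α := {y : Vec n F // y ≠ 0}),
    Fintype.card_subtype_compl, Fintype.card_subtype_eq, Fintype.card_fun, Fintype.card_fin]

theorem dvd_card_mul (hn : 1 ≤ n) [ρ.IsIrreducible] :
    finrank ℂ V ∣ ∏ i : Fin n, (Fintype.card F ^ n - Fintype.card F ^ (i : ℕ)) := by
  rw [← Cfsg.Agent.Lib.Classical.card_SL_mul hn]
  exact Dvd.dvd.mul_left (Cfsg.Agent.Lib.Characters.finrank_dvd_card ρ) _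

theorem gcd_mul_dvd {k a b A B : ℕ} (ha : Nat.gcd k A ∣ a) (hb : Nat.gcd k B ∣ b) :
    Nat.gcd k (A * B) ∣ a * b :=
  (Nat.gcd_mul_right_dvd_mul_gcd k A B).trans (mul_dvd_mul ha hb)

/-- Rank three. -/
theorem bound_three (hn : n = 3) (hq2 : Fintype.card F ≠ 2) (hq4 : Fintype.card F ≠ 4) (hU : IsUnitary ρ)
    [ρ.IsIrreducible] (hnt : ∃ g v, ρ g v ≠ v) : Nat.card (Pt n F) ≤ finrank ℂ V + 1 := by
  by_contra hcon
  obtain ⟨hW, ⟨f, hf⟩, hk⟩ := small_setup (by omega) hU hnt (by simp [hn, hq2, hq4]) (by omega)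
  obtain ⟨ψ, hψ⟩ := exists_addChar F
  have hc := three_bound hn hU hψ f (hW _ f.2.1) hf
  have hk' := hk _ f.2.1
  have hdvd := dvd_card_mul (ρ := ρ) (by omega)
  subst hn
  have hpt := card_Pt (F := F) 3
  set q := Fintype.card F with hq
  set k := finrank ℂ V
  have hq2' : 3 ≤ q := by have := Fintype.one_lt_card (α := F); omega
  obtain ⟨r, hr⟩ : ∃ r, q = r + 1 := ⟨q - 1, by omega⟩
  have hN : Nat.card (Pt 3 F) = q * q + q + 1 := by
    refine Nat.eq_of_mul_eq_mul_right (show 0 < r by omega) ?_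
    rw [show q - 1 = r by omega] at hpt
    rw [hpt, hr]
    have : (r + 1) ^ 3 = ((r + 1) * (r + 1) + (r + 1) + 1) * r + 1 := by ring
    omega
  have hk2 : k + 1 = q * q + q := by
    rw [show 3 - 1 = 2 from rfl, sq] at hk'
    have : 1 ≤ q * q := by nlinarith
    omega
  have hprod : (∏ i : Fin 3, (q ^ 3 - q ^ (i : ℕ))) = (r * (q * q + q + 1)) * (q * (r * (q + 1))) * (q * q * r) := by
    rw [Fin.prod_univ_three]
    simp only [Fin.val_zero, Fin.val_one, Fin.val_two, hr]
    have e1 : (r + 1) ^ 3 = r * ((r + 1) * (r + 1) + (r + 1) + 1) + (r + 1) ^ 0 := by ring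
    have e2 : (r + 1) ^ 3 = (r + 1) * (r * (r + 1 + 1)) + (r + 1) ^ 1 := by ring
    have e3 : (r + 1) ^ 3 = (r + 1) * (r + 1) * r + (r + 1) ^ 2 := by ring
    congr 1
    · congr 1 <;> omega
    · omega
  rw [hprod] at hdvd
  have hcq : Nat.gcd k q ∣ 1 := by
    have h1 : Nat.gcd k q ∣ q * q + q := dvd_add (dvd_mul_of_dvd_left (Nat.gcd_dvd_right k q) q) (Nat.gcd_dvd_right k q)
    rw [← hk2] at h1
    exact (Nat.dvd_add_right (Nat.gcd_dvd_left k q)).mp h1
  have hcr : Nat.gcd k r ∣ 1 := by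
    have h1 : Nat.gcd k r ∣ r * (r + 3) := dvd_mul_of_dvd_left (Nat.gcd_dvd_right k r) _
    have h2 : k = r * (r + 3) + 1 := by
      have : q * q + q = r * (r + 3) + 2 := by rw [hr]; ring
      omega
    have h3 := Nat.gcd_dvd_left k r
    exact (Nat.dvd_add_right h1).mp (h3.trans h2.dvd)
  have hcq1 : Nat.gcd k (q + 1) ∣ 1 := by
    have h1 : Nat.gcd k (q + 1) ∣ q * (q + 1) := dvd_mul_of_dvd_right (Nat.gcd_dvd_right k (q + 1)) _
    rw [show q * (q + 1) = k + 1 by rw [hk2]; ring] at h1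
    exact (Nat.dvd_add_right (Nat.gcd_dvd_left k (q + 1))).mp h1
  have hcN : Nat.gcd k (q * q + q + 1) ∣ 1 := by
    set d := Nat.gcd k (q * q + q + 1) with hd
    have h1 : d ∣ k + 2 := by
      rw [show k + 2 = q * q + q + 1 by omega]; exact Nat.gcd_dvd_right _ _
    have h2 : d ∣ 2 := (Nat.dvd_add_right (Nat.gcd_dvd_left _ _)).mp h1
    obtain ⟨j, hj⟩ := (Nat.even_mul_succ_self q).two_dvd
    have hodd : ¬ 2 ∣ k := by
      have : q * q + q = q * (q + 1) := by ring
      omega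
    rcases (Nat.dvd_prime Nat.prime_two).mp h2 with h | h
    · rw [h]
    · exact absurd (h ▸ Nat.gcd_dvd_left k _) hodd
  have hall := gcd_mul_dvd (gcd_mul_dvd (gcd_mul_dvd hcr hcN) (gcd_mul_dvd hcq (gcd_mul_dvd hcr hcq1)))
    (gcd_mul_dvd (gcd_mul_dvd hcq hcq) hcr)
  rw [Nat.gcd_eq_left hdvd] at hall
  have := Nat.le_of_dvd (by norm_num) hall
  nlinarith

/-- The embedding of `SL₃` fixing the first coordinate. -/
def blockM (g : SLn 3 F) : Matrix (Fin 4) (Fin 4) F :=
  Matrix.of (Fin.cons (Pi.single 0 1) (fun i => Fin.cons 0 ((g : Matrix (Fin 3) (Fin 3) F) i)))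

theorem blockM_det (g : SLn 3 F) : (blockM g).det = 1 := by
  rw [Matrix.det_succ_row_zero, Finset.sum_eq_single (0 : Fin 4)]
  · simp only [blockM, Matrix.of_apply, Fin.cons_zero, Pi.single_eq_same, Fin.val_zero, pow_zero, one_mul]
    exact g.2
  · intro j _ hj
    simp [blockM, Pi.single_eq_of_ne hj]
  · exact fun h => absurd (Finset.mem_univ _) h

theorem blockM_mulVec (g : SLn 3 F) (x : Vec 4 F) : blockM g *ᵥ x = Fin.cons (x 0) (act g (Fin.tail x)) := by
  funext i
  refine Fin.cases ?_ (fun i => ?_) i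
  · simp [blockM, Matrix.mulVec, dotProduct, Fin.sum_univ_succ]
  · simp [blockM, Matrix.mulVec, dotProduct, Fin.sum_univ_succ, act, Fin.tail]

/-- The embedding as a homomorphism. -/
def block : SLn 3 F →* SLn 4 F where
  toFun g := ⟨blockM g, blockM_det g⟩
  map_one' := act_ext fun x => by
    show blockM 1 *ᵥ x = act 1 x
    rw [blockM_mulVec, act_one, act_one, Fin.cons_self_tail]
  map_mul' g h := act_ext fun x => by
    show blockM (g * h) *ᵥ x = (blockM g * blockM h) *ᵥ x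
    rw [← Matrix.mulVec_mulVec]
    rw [blockM_mulVec, blockM_mulVec, blockM_mulVec, act_mul]
    simp

theorem act_block (g : SLn 3 F) (x : Vec 4 F) : act (block g) x = Fin.cons (x 0) (act g (Fin.tail x)) :=
  blockM_mulVec g x

/-- Rank four: the point part contains a representation of `SL₃`. -/
theorem four_bound {ρ : Representation ℂ (SLn 4 F) V} (hq2 : Fintype.card F ≠ 2) (hq4 : Fintype.card F ≠ 4)
    (hU : IsUnitary ρ) (hC : Csp ρ (Submodule.span F {(Pi.single 0 1 : Vec 4 F)}) ≠ ⊥)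
    (hW : Wsp ρ (Submodule.span F {(Pi.single 0 1 : Vec 4 F)}) = ⊥) :
    Nat.card (Pt 3 F) ≤ finrank ℂ (Csp ρ (Submodule.span F {(Pi.single 0 1 : Vec 4 F)})) + 1 := by
  classical
  set e0 : Vec 4 F := Pi.single 0 1 with he0
  set p := Submodule.span F {e0} with hp
  have hdot : ∀ φ : Vec 4 F, φ ⬝ᵥ e0 = φ 0 := fun φ => by rw [he0, dotProduct_single, mul_one]
  have hblock : ∀ g, block g ∈ FX p := fun g => mem_FX_iff.mpr fun y hy => by
    obtain ⟨c, rfl⟩ := Submodule.mem_span_singleton.mp hy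
    rw [act_block]
    funext i
    refine Fin.cases ?_ (fun i => ?_) i
    · simp
    · have h0 : Fin.tail (c • e0) = (0 : Vec 3 F) := funext fun j => by simp [Fin.tail, he0]
      rw [Fin.cons_succ, h0, show act g (0 : Vec 3 F) = 0 from (actL g).map_zero]
      simp [he0]
  let σ : Representation ℂ (SLn 3 F) V := ρ.comp block
  -- a minimal invariant subspace
  have hex : ∃ d, ∃ Y : Submodule ℂ V, Y ≤ Csp ρ p ∧ Y ≠ ⊥ ∧ (∀ g, ∀ v ∈ Y, σ g v ∈ Y) ∧ finrank ℂ Y = d :=
    ⟨_, Csp ρ p, le_rfl, hC, fun g v hv => mem_Csp_of_moveS (moveS_eq_of_fix (hblock g)) hv, rfl⟩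
  obtain ⟨Y, hYC, hY0, hYi, hYd⟩ := Nat.find_spec hex
  have hmin : ∀ Z : Submodule ℂ V, Z ≤ Y → Z ≠ ⊥ → (∀ g, ∀ v ∈ Z, σ g v ∈ Z) → Z = Y := fun Z hZ hZ0 hZi => by
    refine Submodule.eq_of_le_of_finrank_le hZ ?_
    rw [hYd]
    exact Nat.find_le ⟨Z, hZ.trans hYC, hZ0, hZi, rfl⟩
  haveI := subRep_irreducible σ Y hYi hY0 hmin
  have hnt : ∃ g w, subRep σ Y hYi g w ≠ w := by
    by_contra hcon
    push_neg at hcon
    apply hY0
    rw [← le_bot_iff, ← hW]
    rintro v hv t ⟨a, φ, h, hφ, rfl⟩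
    have hφ0 : φ 0 = 0 := by rw [← hdot φ]; exact hφ _ (Submodule.mem_span_singleton_self _)
    have hφe : φ ⬝ᵥ (a 0 • e0) = 0 := by rw [dotProduct_smul, hdot, hφ0, smul_zero]
    have ht3 : Fin.tail φ ⬝ᵥ Fin.tail a = 0 := by
      have := h
      rw [dotProduct, Fin.sum_univ_succ, hφ0, zero_mul, zero_add] at this
      exact this
    have e : tv a φ h = tv (a 0 • e0) φ hφe * block (tv (Fin.tail a) (Fin.tail φ) ht3) := by
      refine act_ext fun y => ?_
      have hd : φ ⬝ᵥ y = Fin.tail φ ⬝ᵥ Fin.tail y := by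
        simp [dotProduct, Fin.sum_univ_succ, hφ0, Fin.tail]
      have hd2 : ∀ c : F, ∀ u : Vec 3 F, φ ⬝ᵥ (Fin.cons c u) = Fin.tail φ ⬝ᵥ u := fun c u => by
        simp [dotProduct, Fin.sum_univ_succ, hφ0, Fin.tail]
      rw [act_mul, act_block, act_tv, act_tv, act_tv, hd2, dotProduct_add, dotProduct_smul, ht3, smul_zero, add_zero]
      funext i
      refine Fin.cases ?_ (fun i => ?_) i
      · simp [he0, hd]
      · simp [he0, hd, Fin.tail]
    have hfix : ρ (block (tv (Fin.tail a) (Fin.tail φ) ht3)) v = v :=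
      congrArg Subtype.val (hcon (tv (Fin.tail a) (Fin.tail φ) ht3) ⟨v, hv⟩)
    rw [e, map_mul, Module.End.mul_apply, hfix]
    exact hYC hv _ ⟨_, φ, hφe, p.smul_mem _ (Submodule.mem_span_singleton_self _), hφ, rfl⟩
  have := bound_three (ρ := subRep σ Y hYi) rfl hq2 hq4 (subRep_unitary σ Y hYi fun g v w => hU (block g) v w) hnt
  have h2 := Submodule.finrank_mono hYC
  omega

/-- The sporadic case `(4, 4)`. -/
theorem not_eightyone {ρ : Representation ℂ (SLn 4 F) V} [ρ.IsIrreducible] (hF : Fintype.card F = 4)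
    (hk : finrank ℂ V = 81)
    {δ : ℕ} (hδ : ∀ Y ≤ Csp ρ (Submodule.span F {(Pi.single 0 1 : Vec 4 F)}), Y ≠ ⊥ →
      Invariant ρ (FX (Submodule.span F {(Pi.single 0 1 : Vec 4 F)})) Y → δ ≤ finrank ℂ Y)
    (hU : IsUnitary ρ) (hc : finrank ℂ (Csp ρ (Submodule.span F {(Pi.single 0 1 : Vec 4 F)})) < 2 * δ)
    (hC : Csp ρ (Submodule.span F {(Pi.single 0 1 : Vec 4 F)}) ≠ ⊥) : False := by
  classical
  set e0 : Vec 4 F := Pi.single 0 1 with he0
  set p := Submodule.span F {e0} with hp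
  have he0p : e0 ∈ p := Submodule.mem_span_singleton_self _
  obtain ⟨ω, hω0, hω1⟩ : ∃ ω : F, ω ≠ 0 ∧ ω ≠ 1 := by
    by_contra hcon
    push_neg at hcon
    have : (Finset.univ : Finset F) ⊆ {0, 1} := fun a _ => by
      rcases eq_or_ne a 0 with h | h
      · simp [h]
      · simp [hcon a h]
    have h2 := (Finset.card_le_card this).trans Finset.card_le_two
    rw [Finset.card_univ, hF] at h2
    omega
  have hω3 : ω * ω * ω = 1 := by
    have := FiniteField.pow_card_sub_one_eq_one ω hω0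
    rw [hF] at this
    linear_combination this
  let d : SLn 4 F := ⟨Matrix.diagonal ![1, ω, ω, ω], by
    rw [Matrix.det_diagonal, Fin.prod_univ_four]; simpa [mul_assoc] using hω3⟩
  have hd : ∀ y, act d y = ω • y + ((1 - ω) * y 0) • e0 := fun y => by
    funext i
    show (Matrix.diagonal ![1, ω, ω, ω] *ᵥ y) i = _
    rw [Matrix.mulVec_diagonal]
    fin_cases i <;> simp [he0] <;> ring
  have hde : act d e0 = e0 := by
    rw [hd, show e0 0 = 1 by simp [he0], mul_one, ← add_smul, add_sub_cancel, one_smul]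
  have hmv : moveS d p = p := by rw [hp, moveS_span, Set.image_singleton, hde]
  -- `d` commutes with the fixator of `e0` on `C`
  have hcomm : ∀ g ∈ FX p, ∀ v ∈ Csp ρ p, ρ d (ρ g v) = ρ g (ρ d v) := by
    intro g hg
    induction hg using Subgroup.closure_induction with
    | mem t ht =>
      obtain ⟨a, φ, h, hφ, rfl⟩ := ht
      intro v hv
      have hφe : φ ⬝ᵥ e0 = 0 := hφ _ he0p
      set c := (1 - ω) * a 0 * ω⁻¹ with hc'
      have h1 : (c • φ) ⬝ᵥ e0 = 0 := by rw [smul_dotProduct, hφe, smul_zero]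
      have e : d * tv a φ h = tv e0 (c • φ) h1 * (tv a φ h * d) := by
        refine act_ext fun y => ?_
        simp only [act_mul, act_tv, hd, Pi.add_apply, Pi.smul_apply, smul_eq_mul, dotProduct_add, dotProduct_smul,
          smul_dotProduct, h, hφe, mul_zero, add_zero, smul_add, smul_smul]
        have hkey : c * ω = (1 - ω) * a 0 := by rw [hc']; field_simp
        match_scalars <;> first | ring1 | linear_combination (-(φ ⬝ᵥ y)) * hkey
      rw [← Module.End.mul_apply, ← map_mul, e, map_mul, map_mul, Module.End.mul_apply, Module.End.mul_apply]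
      exact mem_Csp_of_moveS (moveS_eq_of_fix (Subgroup.subset_closure ⟨a, φ, h, hφ, rfl⟩))
        (mem_Csp_of_moveS hmv hv) _ ⟨e0, _, h1, he0p, fun y hy => by
          rw [smul_dotProduct, hφ y hy, smul_zero], rfl⟩
    | one => intro v _; simp
    | mul x y hx hy ihx ihy =>
      intro v hv
      rw [map_mul, Module.End.mul_apply, Module.End.mul_apply, ihx _ (mem_Csp_of_moveS (moveS_eq_of_fix hy) hv), ihy v hv]
    | inv x hx ihx =>
      intro v hv
      apply rho_injective (ρ := ρ) x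
      rw [← ihx _ (mem_Csp_of_moveS (moveS_eq_of_fix (inv_mem hx)) hv), rho_apply_inv, rho_apply_inv]
  -- a scalar on `C`
  obtain ⟨lam, hlam⟩ : ∃ lam : ℂ, ∀ v ∈ Csp ρ p, ρ d v = lam • v := by
    haveI : Nontrivial (Csp ρ p) := Submodule.nontrivial_iff_ne_bot.mpr hC
    obtain ⟨lam, hlam⟩ := Module.End.exists_eigenvalue ((ρ d).restrict fun v hv => mem_Csp_of_moveS hmv hv :
      Module.End ℂ (Csp ρ p))
    obtain ⟨w, hw⟩ := hlam.exists_hasEigenvector
    refine ⟨lam, ?_⟩
    let Y : Submodule ℂ V := Csp ρ p ⊓ LinearMap.ker (ρ d - lam • (1 : Module.End ℂ V))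
    have hwY : ρ d (w : V) = lam • (w : V) := congrArg Subtype.val hw.apply_eq_smul
    have hY : Y = Csp ρ p := by
      refine full_of_small hU hδ hc inf_le_left ((Submodule.ne_bot_iff _).mpr
        ⟨w, ⟨w.2, by simp [hwY]⟩, fun h => hw.2 (Subtype.ext h)⟩) fun g hg v hv => ?_
      refine ⟨mem_Csp_of_moveS (moveS_eq_of_fix hg) hv.1, ?_⟩
      have h2 : ρ d v = lam • v := by
        have := hv.2; simpa [sub_eq_zero] using this
      simp [hcomm g hg v hv.1, h2]
    intro v hv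
    rw [← hY] at hv
    have := hv.2
    simpa [sub_eq_zero] using this
  have hlam0 : lam ≠ 0 := fun h0 => hC ((Submodule.eq_bot_iff _).mpr fun v hv =>
    rho_injective (ρ := ρ) d (by rw [hlam v hv, h0, zero_smul, map_zero]))
  -- the averaging projection
  haveI : Fintype {φ : Vec 4 F // φ ⬝ᵥ e0 = 0} := Fintype.ofFinite _
  let A := {φ : Vec 4 F // φ ⬝ᵥ e0 = 0}
  let u : A → SLn 4 F := fun φ => tv e0 φ.1 φ.2
  have huQ : ∀ φ : A, u φ ∈ TQ p := fun φ => ⟨e0, φ.1, φ.2, he0p, fun y hy => by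
    obtain ⟨c, rfl⟩ := Submodule.mem_span_singleton.mp hy; rw [dotProduct_smul, φ.2, smul_zero], rfl⟩
  have hA : (Fintype.card A : ℂ) ≠ 0 := by
    haveI : Nonempty A := ⟨⟨0, zero_dotProduct _⟩⟩
    exact_mod_cast Fintype.card_ne_zero
  let P : V →ₗ[ℂ] V := (Fintype.card A : ℂ)⁻¹ • ∑ φ : A, ρ (u φ)
  have hP : LinearMap.IsProj (Csp ρ p) P := by
    refine ⟨fun v => ?_, fun v hv => ?_⟩
    · rintro t ⟨a, φ₁, h, ha, hφ₁, rfl⟩
      obtain ⟨c, rfl⟩ := Submodule.mem_span_singleton.mp ha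
      have h1 : (c • φ₁) ⬝ᵥ e0 = 0 := by rw [smul_dotProduct, hφ₁ e0 he0p, smul_zero]
      rw [tv_smul c e0 φ₁ h h1]
      simp only [P, LinearMap.smul_apply, LinearMap.sum_apply, map_smul, map_sum]
      congr 1
      let s : A ≃ A :=
        { toFun := fun φ => ⟨c • φ₁ + φ.1, by rw [add_dotProduct, h1, φ.2, add_zero]⟩
          invFun := fun φ => ⟨φ.1 - c • φ₁, by rw [sub_dotProduct, h1, φ.2, sub_zero]⟩
          left_inv := fun φ => by simp
          right_inv := fun φ => by simp }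
      refine Fintype.sum_equiv s _ _ fun φ => ?_
      rw [← Module.End.mul_apply, ← map_mul]
      simp only [u, tv_mul]
      rfl
    · simp only [P, LinearMap.smul_apply, LinearMap.sum_apply]
      rw [Finset.sum_congr rfl (fun φ _ => hv _ (huQ φ)), Finset.sum_const, Finset.card_univ, ← Nat.cast_smul_eq_nsmul ℂ,
        smul_smul, inv_mul_cancel₀ hA, one_smul]
  -- the character vanishes at `d`
  have hord : orderOf d = 3 := by
    haveI : Fact (Nat.Prime 3) := ⟨Nat.prime_three⟩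
    refine orderOf_eq_prime ?_ ?_
    · refine act_ext fun y => ?_
      rw [pow_three, act_mul, act_mul, act_one, hd, hd, hd]
      funext i
      fin_cases i <;> simp [he0] <;> first
        | ring1 | linear_combination (y 1) * hω3 | linear_combination (y 2) * hω3 | linear_combination (y 3) * hω3
    · intro h
      have := congrFun (congrArg (fun g => act g (Pi.single 1 1 : Vec 4 F)) h) 1
      simp only [hd, act_one] at this
      simp [he0] at this
      exact hω1 this
  have hvan : ρ.character d = 0 := by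
    refine Cfsg.Agent.Lib.Characters.vanish_of_defect_zero (Cfsg.Agent.Lib.Characters.isIrrCharacter_of_rep ρ)
      Nat.prime_three ρ.char_one ?_ (hord ▸ dvd_rfl)
    have hcard : Nat.card (SLn 4 F) = 987033600 := by
      have h := Cfsg.Agent.Lib.Classical.card_SL_mul (F := F) (n := 4) (by norm_num)
      rw [hF, Fin.prod_univ_four] at h
      norm_num [-Nat.card_eq_fintype_card] at h
      have h' : 3 * Nat.card (SLn 4 F) = 2961100800 := h
      omega
    have h4 : (Nat.card (SLn 4 F)).factorization 3 = 4 := by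
      rw [hcard]
      have h1 : 3 ^ 4 ∣ (987033600 : ℕ) := by norm_num
      have h2 : ¬ 3 ^ 5 ∣ (987033600 : ℕ) := by norm_num
      have h1' := (Nat.prime_three.pow_dvd_iff_le_factorization (by norm_num)).mp h1
      have h2' : ¬ 5 ≤ (987033600 : ℕ).factorization 3 := fun h =>
        h2 ((Nat.prime_three.pow_dvd_iff_le_factorization (by norm_num)).mpr h)
      omega
    rw [h4, hk]
    norm_num
  -- every `d u` is conjugate to `d`
  have hconj : ∀ φ : A, ρ.character (d * u φ) = ρ.character d := by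
    intro φ
    set c := (ω - 1)⁻¹ with hc'
    have h1 : (c • φ.1) ⬝ᵥ e0 = 0 := by rw [smul_dotProduct, φ.2, smul_zero]
    have e : tv e0 (c • φ.1) h1 * d * (tv e0 (c • φ.1) h1)⁻¹ = d * u φ := by
      rw [mul_inv_eq_iff_eq_mul]
      refine act_ext fun y => ?_
      simp only [u, act_mul, act_tv, act_add, act_smul, hde, smul_dotProduct, dotProduct_add, dotProduct_smul, φ.2,
        smul_eq_mul, mul_zero, zero_smul, add_zero]
      have hne : ω - 1 ≠ 0 := sub_ne_zero.mpr hω1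
      have hkey : c * ω = c + 1 := by linear_combination (inv_mul_cancel₀ hne : c * (ω - 1) = 1)
      have hφd : φ.1 ⬝ᵥ act d y = ω * (φ.1 ⬝ᵥ y) := by
        rw [hd, dotProduct_add, dotProduct_smul, dotProduct_smul, φ.2, smul_zero, add_zero, smul_eq_mul]
      rw [hφd, add_assoc, ← add_smul]
      congr 2
      linear_combination (φ.1 ⬝ᵥ y) * hkey
    rw [← e, ρ.char_conj]
  have h1 : LinearMap.trace ℂ V (ρ d * P) = 0 := by
    have : ρ d * P = (Fintype.card A : ℂ)⁻¹ • ∑ φ : A, ρ (d * u φ) := by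
      simp only [P, mul_smul_comm, Finset.mul_sum, map_mul]
    rw [this, map_smul, map_sum]
    rw [Finset.sum_eq_zero fun φ _ => (?_ : LinearMap.trace ℂ V (ρ (d * u φ)) = 0), smul_zero]
    exact (hconj φ).trans hvan
  have h2 : ρ d * P = lam • P := LinearMap.ext fun v => hlam _ (hP.map_mem v)
  rw [h2, map_smul, hP.trace, smul_eq_mul] at h1
  rcases mul_eq_zero.mp h1 with h | h
  · exact hlam0 h
  · exact hC (Submodule.finrank_eq_zero.mp (by exact_mod_cast h))

/-- Rank four. -/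
theorem bound_four {ρ : Representation ℂ (SLn 4 F) V} (hq : 4 ≤ Fintype.card F) (hU : IsUnitary ρ) [ρ.IsIrreducible]
    (hnt : ∃ g v, ρ g v ≠ v) : Nat.card (Pt 4 F) ≤ finrank ℂ V + 1 := by
  by_contra hcon
  obtain ⟨hW, ⟨f, hf⟩, hk⟩ := small_setup (by norm_num) hU hnt (by
    simp only [ne_eq, Prod.mk.injEq]; omega) (by omega)
  obtain ⟨ψ, hψ⟩ := exists_addChar F
  set e0 : Vec 4 F := Pi.single 0 1 with he0
  set p := Submodule.span F {e0} with hp
  have he00 : e0 ≠ 0 := fun h => by simpa [he0] using congrFun h 0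
  have hp1 : finrank F p = 1 := finrank_span_singleton he00
  have hC : Csp ρ p ≠ ⊥ := by
    intro h
    have h1 : finrank ℂ (Csp ρ f.1.1) = 0 := by rw [finrank_Csp_const (by norm_num) f.2.1 hp1, h, finrank_bot]
    exact hf (le_bot_iff.mp ((inf_le_left.trans inf_le_right).trans (Submodule.finrank_eq_zero.mp h1).le))
  have hδ : ∀ q : Submodule F (Vec 4 F), finrank F q = 1 → ∀ Y ≤ Csp ρ q, Y ≠ ⊥ → Invariant ρ (FX q) Y →
      Fintype.card F ^ (4 - 2) - 1 ≤ finrank ℂ Y :=
    fun q hq Y hY hY0 hinv => delta_bound le_rfl hU hψ hq (hW q hq) hY hY0 hinv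
  have hk' := hk p hp1
  have hpt := card_Pt (F := F) 4
  have hdvd := dvd_card_mul (ρ := ρ) (by norm_num)
  rcases (by omega : Fintype.card F = 4 ∨ 5 ≤ Fintype.card F) with h4 | h5
  · rw [h4] at hk' hpt hdvd hδ
    norm_num [-Nat.card_eq_fintype_card] at hk' hpt hδ
    rw [Fin.prod_univ_four] at hdvd
    norm_num [-Nat.card_eq_fintype_card] at hdvd
    have hN : Nat.card (Pt 4 F) = 85 := by omega
    have hc15 := hδ p hp1 (Csp ρ p) le_rfl hC (fun g hg v hv => mem_Csp_of_moveS (moveS_eq_of_fix hg) hv)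
    have hc2 : finrank ℂ (Csp ρ p) < 2 * 15 := by omega
    have hdvdk : finrank ℂ V ∣ 987033600 := by
      have := Cfsg.Agent.Lib.Characters.finrank_dvd_card ρ
      have h := Cfsg.Agent.Lib.Classical.card_SL_mul (F := F) (n := 4) (by norm_num)
      rw [h4, Fin.prod_univ_four] at h
      norm_num [-Nat.card_eq_fintype_card] at h
      have h' : 3 * Nat.card (SLn 4 F) = 2961100800 := h
      rwa [show Nat.card (SLn 4 F) = 987033600 by omega] at this
    have hcases : finrank ℂ V = 80 ∨ finrank ℂ V = 81 := by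
      have : 78 ≤ finrank ℂ V := by omega
      have : finrank ℂ V ≤ 83 := by omega
      interval_cases finrank ℂ V <;> first | omega | norm_num [-Nat.card_eq_fintype_card] at hdvdk
    rcases hcases with h80 | h81
    · have h17 := dim_dvd_card_FX hU (hδ p hp1) hc2 hC
      rw [show finrank ℂ (Csp ρ p) = 17 by omega] at h17
      have h := Cfsg.Agent.Lib.Classical.card_SL_mul (F := F) (n := 4) (by norm_num)
      rw [card_eq_orbit_mul_FX (by norm_num) he00, h4, Fin.prod_univ_four] at h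
      norm_num [-Nat.card_eq_fintype_card] at h
      have h' : 3 * (255 * Nat.card (FX p)) = 2961100800 := h
      omega
    · exact not_eightyone h4 h81 (hδ p hp1) hU hc2 hC
  · have h3 : Nat.card (Pt 3 F) ≤ finrank ℂ (Csp ρ p) + 1 := four_bound (by omega) (by omega) hU hC (hW p hp1)
    have hpt3 := card_Pt (F := F) 3
    set k := finrank ℂ V
    set q := Fintype.card F with hqdef
    obtain ⟨r, hr⟩ : ∃ r, q = r + 1 := ⟨q - 1, by omega⟩
    rw [show q - 1 = r by omega] at hpt hpt3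
    have hN4 : Nat.card (Pt 4 F) = q * q * q + q * q + q + 1 := by
      refine Nat.eq_of_mul_eq_mul_right (show 0 < r by omega) ?_
      rw [hpt, hr]
      have : (r + 1) ^ 4 = ((r + 1) * (r + 1) * (r + 1) + (r + 1) * (r + 1) + (r + 1) + 1) * r + 1 := by ring
      omega
    have hN3 : Nat.card (Pt 3 F) = q * q + q + 1 := by
      refine Nat.eq_of_mul_eq_mul_right (show 0 < r by omega) ?_
      rw [hpt3, hr]
      have : (r + 1) ^ 3 = ((r + 1) * (r + 1) + (r + 1) + 1) * r + 1 := by ring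
      omega
    rw [show q ^ (4 - 1) = q * q * q by ring] at hk'
    have hq3 : 125 ≤ q * q * q := by nlinarith
    have hk2 : k + 1 = q * q * q + q * q + q := by omega
    rw [Fin.prod_univ_four] at hdvd
    simp only [Fin.val_zero, Fin.val_one, Fin.val_two, show ((3 : Fin 4) : ℕ) = 3 from rfl] at hdvd
    have e0' : q ^ 4 - q ^ 0 = r * (q + 1) * (q * q + 1) := by
      have : q ^ 4 = r * (q + 1) * (q * q + 1) + q ^ 0 := by rw [hr]; ring
      omega
    have e1' : q ^ 4 - q ^ 1 = q * r * (q * q + q + 1) := by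
      have : q ^ 4 = q * r * (q * q + q + 1) + q ^ 1 := by rw [hr]; ring
      omega
    have e2' : q ^ 4 - q ^ 2 = q * q * r * (q + 1) := by
      have : q ^ 4 = q * q * r * (q + 1) + q ^ 2 := by rw [hr]; ring
      omega
    have e3' : q ^ 4 - q ^ 3 = q * q * q * r := by
      have : q ^ 4 = q * q * q * r + q ^ 3 := by rw [hr]; ring
      omega
    rw [e0', e1', e2', e3'] at hdvd
    have hcq : Nat.gcd k q ∣ 1 := by
      have h1 : Nat.gcd k q ∣ (q * q + q + 1) * q := dvd_mul_of_dvd_right (Nat.gcd_dvd_right k q) _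
      rw [show (q * q + q + 1) * q = k + 1 by rw [hk2]; ring] at h1
      exact (Nat.dvd_add_right (Nat.gcd_dvd_left k q)).mp h1
    have hcr : Nat.gcd k r ∣ 2 := by
      have h1 : Nat.gcd k r ∣ r * (r * r + 4 * r + 6) := dvd_mul_of_dvd_left (Nat.gcd_dvd_right k r) _
      have h2 : k = r * (r * r + 4 * r + 6) + 2 := by
        have : q * q * q + q * q + q = r * (r * r + 4 * r + 6) + 3 := by rw [hr]; ring
        omega
      exact (Nat.dvd_add_right h1).mp ((Nat.gcd_dvd_left k r).trans h2.dvd)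
    have hcq1 : Nat.gcd k (q + 1) ∣ 2 := by
      have h1 : Nat.gcd k (q + 1) ∣ (q + 1) * (q * q + 1) := dvd_mul_of_dvd_left (Nat.gcd_dvd_right k (q + 1)) _
      rw [show (q + 1) * (q * q + 1) = k + 2 by
        rw [show k + 2 = k + 1 + 1 from rfl, hk2]; ring] at h1
      exact (Nat.dvd_add_right (Nat.gcd_dvd_left k (q + 1))).mp h1
    have hcq2 : Nat.gcd k (q * q + 1) ∣ 2 := by
      have h1 : Nat.gcd k (q * q + 1) ∣ (q + 1) * (q * q + 1) := dvd_mul_of_dvd_right (Nat.gcd_dvd_right k _) _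
      rw [show (q + 1) * (q * q + 1) = k + 2 by
        rw [show k + 2 = k + 1 + 1 from rfl, hk2]; ring] at h1
      exact (Nat.dvd_add_right (Nat.gcd_dvd_left k _)).mp h1
    have hcN : Nat.gcd k (q * q + q + 1) ∣ 1 := by
      have h1 : Nat.gcd k (q * q + q + 1) ∣ q * (q * q + q + 1) := dvd_mul_of_dvd_right (Nat.gcd_dvd_right k _) _
      rw [show q * (q * q + q + 1) = k + 1 by rw [hk2]; ring] at h1
      exact (Nat.dvd_add_right (Nat.gcd_dvd_left k _)).mp h1
    have hall := gcd_mul_dvd (gcd_mul_dvd (gcd_mul_dvd (gcd_mul_dvd (gcd_mul_dvd hcr hcq1) hcq2)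
      (gcd_mul_dvd (gcd_mul_dvd hcq hcr) hcN))
      (gcd_mul_dvd (gcd_mul_dvd (gcd_mul_dvd hcq hcq) hcr) hcq1))
      (gcd_mul_dvd (gcd_mul_dvd (gcd_mul_dvd hcq hcq) hcq) hcr)
    rw [Nat.gcd_eq_left hdvd] at hall
    have := Nat.le_of_dvd (by norm_num) hall
    norm_num [-Nat.card_eq_fintype_card] at this
    nlinarith

/-- Rank at least five. -/
theorem bound_five (hn : 5 ≤ n) (hU : IsUnitary ρ) [ρ.IsIrreducible] (hnt : ∃ g v, ρ g v ≠ v) :
    Nat.card (Pt n F) ≤ finrank ℂ V + 1 := by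
  by_contra hcon
  obtain ⟨hW, ⟨f, hf⟩, hk⟩ := small_setup (by omega) hU hnt (by
    simp only [ne_eq, Prod.mk.injEq]; omega) (by omega)
  obtain ⟨ψ, hψ⟩ := exists_addChar F
  have hδ : ∀ q : Submodule F (Vec n F), finrank F q = 1 → ∀ Y ≤ Csp ρ q, Y ≠ ⊥ → Invariant ρ (FX q) Y →
      Fintype.card F ^ (n - 2) - 1 ≤ finrank ℂ Y :=
    fun q hq Y hY hY0 hinv => delta_bound (by omega) hU hψ hq (hW q hq) hY hY0 hinv
  have heng := engine_bound (by omega) hU f hf _ hδ
  have hq : 2 ≤ Fintype.card F := Fintype.one_lt_card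
  by_cases h52 : n = 5 ∧ Fintype.card F = 2
  · obtain ⟨rfl, h2⟩ := h52
    have hpt := card_Pt (F := F) 5
    have hk' := hk _ f.2.1
    rw [h2] at hpt hk' heng
    have hδ' := hδ _ f.2.1
    rw [h2] at hδ'
    norm_num [-Nat.card_eq_fintype_card] at hpt hk' heng hδ'
    have hC : Csp ρ f.1.1 ≠ ⊥ := fun h => hf (le_bot_iff.mp ((inf_le_left.trans inf_le_right).trans h.le))
    have hcard : Nat.card (SLn 5 F) = 9999360 := by
      have h := Cfsg.Agent.Lib.Classical.card_SL_mul (F := F) (n := 5) (by norm_num)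
      rw [h2, Fin.prod_univ_five] at h
      norm_num [-Nat.card_eq_fintype_card] at h
      exact h
    have hdvd := Cfsg.Agent.Lib.Characters.finrank_dvd_card ρ
    rw [hcard] at hdvd
    have hk28 : finrank ℂ V = 28 := by
      have : 25 ≤ finrank ℂ V := by omega
      have : finrank ℂ V ≤ 29 := by omega
      interval_cases finrank ℂ V <;> first | omega | norm_num [-Nat.card_eq_fintype_card] at hdvd
    have hc2 : finrank ℂ (Csp ρ f.1.1) < 2 * 7 := by omega
    have h13 := (dim_dvd_card_FX hU hδ' hc2 hC).trans (Subgroup.card_subgroup_dvd_card (FX f.1.1))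
    rw [hcard, show finrank ℂ (Csp ρ f.1.1) = 13 by omega] at h13
    norm_num [-Nat.card_eq_fintype_card] at h13
  · have hkey : (Fintype.card F + 1) ^ 2 < Fintype.card F ^ (n - 2) := by
      rcases (by omega : Fintype.card F = 2 ∨ 3 ≤ Fintype.card F) with h2 | h3
      · rw [h2]
        calc (2 + 1) ^ 2 < 2 ^ 4 := by norm_num
          _ ≤ _ := Nat.pow_le_pow_right (by norm_num) (by omega)
      · calc (Fintype.card F + 1) ^ 2 < Fintype.card F ^ 3 := by nlinarith
          _ ≤ _ := Nat.pow_le_pow_right (by omega) (by omega)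
    have h1 : Nat.card (Pt n F) * (Fintype.card F + 1) ^ 2 ≤ finrank ℂ V * (Fintype.card F + 1) ^ 2 :=
      (Nat.mul_le_mul_left _ (by omega)).trans heng
    have := Nat.le_of_mul_le_mul_right h1 (by positivity)
    omega

/-- The degree bound for unitary representations. -/
theorem main_bound (hn : 3 ≤ n)
    (hex : (n, Fintype.card F) ≠ (3, 2) ∧ (n, Fintype.card F) ≠ (3, 4) ∧ (n, Fintype.card F) ≠ (4, 2) ∧ (n, Fintype.card F) ≠ (4, 3))
    (hU : IsUnitary ρ) [ρ.IsIrreducible] (hnt : ∃ g v, ρ g v ≠ v) : Nat.card (Pt n F) ≤ finrank ℂ V + 1 := by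
  rcases (by omega : 5 ≤ n ∨ n = 4 ∨ n = 3) with h | rfl | rfl
  · exact bound_five h hU hnt
  · refine bound_four ?_ hU hnt
    have h2 := hex.2.2.1; have h3 := hex.2.2.2
    simp only [ne_eq, Prod.mk.injEq, true_and] at h2 h3
    have := Fintype.one_lt_card (α := F)
    omega
  · exact bound_three rfl (by simpa using hex.1) (by simpa using hex.2.1) hU hnt

end

end Cfsg.Agent.Lib.KnownA.LS
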