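import Mathlib
import Cfsg.Agent.Lib.KnownA.LS.Main
import Cfsg.Agent.Lib.Characters.Perm

/-! The degree bound for arbitrary representations, and the permutation representation on points. -/

set_option autoImplicit false
set_option maxHeartbeats 400000

namespace Cfsg.Agent.Lib.KnownA.LS

open Module Matrix
open scoped ComplexConjugate

set_option linter.unusedSectionVars false

noncomputable section

variable {n : ℕ} {F : Type*} [Field F] [Fintype F]

/-- The degree bound for a representation on any finite dimensional space. -/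
theorem bound_of_rep {W : Type*} [AddCommGroup W] [Module ℂ W] [FiniteDimensional ℂ W] (hn : 3 ≤ n)
    (hex : (n, Fintype.card F) ≠ (3, 2) ∧ (n, Fintype.card F) ≠ (3, 4) ∧ (n, Fintype.card F) ≠ (4, 2) ∧ (n, Fintype.card F) ≠ (4, 3))
    (ρ : Representation ℂ (SLn n F) W) (hirr : ρ.IsIrreducible) (hnt : ∃ g v, ρ g v ≠ v) :
    Nat.card (Pt n F) ≤ finrank ℂ W + 1 := by
  classical
  let e : W ≃ₗ[ℂ] (Fin (finrank ℂ W) → ℂ) := (Module.finBasis ℂ W).equivFun
  haveI : Fintype (SLn n F) := Fintype.ofFinite _
  let cd : InnerProductSpace.Core ℂ W :=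
    { inner := fun x y => ∑ g, ∑ i, conj (e (ρ g x) i) * e (ρ g y) i
      conj_inner_symm := fun x y => by simp [map_sum, mul_comm]
      re_inner_nonneg := fun x => by
        simp only [← RCLike.conj_mul, map_sum]
        refine Finset.sum_nonneg fun g _ => Finset.sum_nonneg fun i _ => ?_
        rw [RCLike.conj_mul]
        simp [← Complex.ofReal_pow]
      add_left := fun x y z => by simp [add_mul, Finset.sum_add_distrib]
      smul_left := fun x y r => by simp [Finset.mul_sum, mul_assoc]
      definite := fun x hx => by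
        have h2 : ∑ g, ∑ i, ‖e (ρ g x) i‖ ^ 2 = (0 : ℝ) := by
          have : ((∑ g, ∑ i, ‖e (ρ g x) i‖ ^ 2 : ℝ) : ℂ) = 0 := by
            push_cast
            rw [← hx]
            exact Finset.sum_congr rfl fun g _ => Finset.sum_congr rfl fun i _ => (Complex.conj_mul' _).symm
          exact_mod_cast this
        have h3 := (Finset.sum_eq_zero_iff_of_nonneg fun g _ => Finset.sum_nonneg fun i _ => sq_nonneg _).mp h2 1
          (Finset.mem_univ _)
        rw [map_one] at h3
        have h4 := (Finset.sum_eq_zero_iff_of_nonneg fun i _ => sq_nonneg _).mp h3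
        refine e.injective (funext fun i => ?_)
        simpa using h4 i (Finset.mem_univ _) }
  letI : NormedAddCommGroup W := cd.toNormedAddCommGroup
  letI : InnerProductSpace ℂ W := InnerProductSpace.ofCore cd.toCore
  refine main_bound (ρ := ρ) hn hex ?_ hnt
  intro h v w
  show ∑ g, ∑ i, conj (e (ρ g (ρ h v)) i) * e (ρ g (ρ h w)) i = ∑ g, ∑ i, conj (e (ρ g v) i) * e (ρ g w) i
  simp only [← Module.End.mul_apply, ← map_mul]
  exact Fintype.sum_equiv (Equiv.mulRight h) _ _ fun g => rfl

/-- The action on points. -/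
@[reducible] def ptAction : MulAction (SLn n F) (Pt n F) where
  smul g p := ⟨moveS g p.1, by rw [finrank_moveS, p.2]⟩
  one_smul p := Subtype.ext (moveS_one p.1)
  mul_smul g h p := Subtype.ext (moveS_mul g h p.1)

theorem exists_map_two (hn : 3 ≤ n) {a b c d : Pt n F} (hab : a ≠ b) (hcd : c ≠ d) :
    ∃ g : SLn n F, moveS g a.1 = c.1 ∧ moveS g b.1 = d.1 := by
  obtain ⟨g₁, hg₁⟩ := exists_map_point hn a.2 c.2
  obtain ⟨y, hy0, hy⟩ := exists_point_vec b.2
  obtain ⟨y', hy0', hy'⟩ := exists_point_vec d.2
  have h1 : act g₁ y ∉ c.1 := by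
    intro h
    apply hab
    apply Subtype.ext
    rw [← hg₁, mem_moveS, act_inv_act] at h
    refine (Submodule.eq_of_le_of_finrank_eq ?_ (b.2.trans a.2.symm)).symm
    rwa [hy, Submodule.span_singleton_le_iff_mem]
  have h2 : y' ∉ c.1 := fun h => hcd (Subtype.ext (Submodule.eq_of_le_of_finrank_eq
    (by rwa [hy', Submodule.span_singleton_le_iff_mem]) (d.2.trans c.2.symm)).symm)
  obtain ⟨g₂, hg₂, hg₂y⟩ := exists_move h1 h2 (ne_top_of_finrank_lt (by
    rw [Submodule.finrank_sup_span_singleton h1, c.2]; omega))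
  refine ⟨g₂ * g₁, by rw [moveS_mul, hg₁, moveS_eq_of_fix hg₂], ?_⟩
  rw [moveS_mul, hy, moveS_span, Set.image_singleton, moveS_span, Set.image_singleton, hg₂y, hy']

/-- The permutation representation on points has an irreducible part of codimension one. -/
theorem exists_perm_rep (hn : 3 ≤ n) :
    ∃ ρ : Representation ℂ (SLn n F) (Fin (Nat.card (Pt n F) - 1) → ℂ), ρ.IsIrreducible := by
  classical
  letI := ptAction (n := n) (F := F)
  haveI : MulAction.IsPretransitive (SLn n F) (Pt n F) :=
    ⟨fun a b => (exists_map_point hn a.2 b.2).imp fun g hg => Subtype.ext hg⟩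
  haveI : Fintype (SLn n F) := Fintype.ofFinite _
  have h2 : MulAction.IsMultiplyPretransitive (SLn n F) (Pt n F) 2 := by
    rw [MulAction.is_two_pretransitive_iff]
    intro a b c d hab hcd
    obtain ⟨g, h1, h2⟩ := exists_map_two hn hab hcd
    exact ⟨g, Subtype.ext h1, Subtype.ext h2⟩
  have hX : 2 ≤ Nat.card (Pt n F) := by
    have h := card_Pt (F := F) n
    have hq : 1 < Fintype.card F := Fintype.one_lt_card
    have h3 : Fintype.card F ^ 3 ≤ Fintype.card F ^ n := Nat.pow_le_pow_right (by omega) hn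
    by_contra hcon
    have : Nat.card (Pt n F) * (Fintype.card F - 1) ≤ 1 * (Fintype.card F - 1) := Nat.mul_le_mul_right _ (by omega)
    have : 2 * Fintype.card F ≤ Fintype.card F ^ 3 := by
      rw [pow_three]; exact Nat.mul_le_mul hq (Nat.le_mul_of_pos_right _ (by omega))
    omega
  obtain ⟨m, ρ, hirr, hχ⟩ := (Cfsg.Agent.Lib.Characters.isIrr_permChar_sub_one_iff (Pt n F) hX).mpr h2
  have hm : m = Nat.card (Pt n F) - 1 := by
    have h1 := congrFun hχ 1
    rw [ρ.char_one, finrank_fin_fun] at h1
    have h3 : Nat.card (MulAction.fixedBy (Pt n F) (1 : SLn n F)) = Nat.card (Pt n F) := by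
      exact Nat.card_congr (Equiv.subtypeUnivEquiv fun p => one_smul (SLn n F) p)
    rw [h3] at h1
    have h4 : ((m : ℕ) : ℂ) = ((Nat.card (Pt n F) - 1 : ℕ) : ℂ) := by
      rw [h1, Nat.cast_sub (by omega)]; simp
    exact_mod_cast h4
  subst hm
  exact ⟨ρ, hirr⟩

theorem card_Pt_eq_div (n : ℕ) : Nat.card (Pt n F) = (Fintype.card F ^ n - 1) / (Fintype.card F - 1) := by
  rw [← card_Pt n, Nat.mul_div_cancel _ (Nat.sub_pos_of_lt Fintype.one_lt_card)]

theorem card_Pt_sub_one (hn : 1 ≤ n) :
    Nat.card (Pt n F) - 1 = (Fintype.card F ^ n - Fintype.card F) / (Fintype.card F - 1) := by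
  have hq : 1 < Fintype.card F := Fintype.one_lt_card
  have h := card_Pt (F := F) n
  have h2 : Fintype.card F ≤ Fintype.card F ^ n := Nat.le_self_pow (by omega) _
  have h3 : Fintype.card F ^ n - Fintype.card F = (Nat.card (Pt n F) - 1) * (Fintype.card F - 1) := by
    rw [Nat.sub_mul, one_mul, h]; omega
  rw [h3, Nat.mul_div_cancel _ (Nat.sub_pos_of_lt hq)]

theorem nontrivial_of_two_le {G : Type*} [Group G] {W : Type*} [AddCommGroup W] [Module ℂ W] [FiniteDimensional ℂ W]
    {ρ : Representation ℂ G W} (hirr : ρ.IsIrreducible) (hk : 2 ≤ finrank ℂ W) : ∃ g v, ρ g v ≠ v := by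
  by_contra hcon
  push_neg at hcon
  haveI : Nontrivial W := Module.nontrivial_of_finrank_pos (R := ℂ) (by omega)
  obtain ⟨w, hw⟩ := exists_ne (0 : W)
  let S : Subrepresentation ρ :=
    { toSubmodule := Submodule.span ℂ {w}
      apply_mem_toSubmodule := fun g v hv => by rwa [hcon g v] }
  rcases eq_bot_or_eq_top S with h | h
  · have : w ∈ S.toSubmodule := Submodule.mem_span_singleton_self w
    rw [h] at this
    exact hw this
  · have h1 : finrank ℂ S.toSubmodule = finrank ℂ W := by
      rw [h]; exact finrank_top ℂ W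
    have h2 : finrank ℂ (Submodule.span ℂ {w}) = 1 := finrank_span_singleton hw
    exact absurd (h1.symm.trans h2) (by omega)

end

end Cfsg.Agent.Lib.KnownA.LS
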