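import Mathlib
import Cfsg.Agent.Lib.KnownA.LS.Transfer

/-! The smallest index of a proper subgroup of `SL_n`. -/

set_option autoImplicit false
set_option maxHeartbeats 400000

namespace Cfsg.Agent.Lib.KnownA.LS

open Module Matrix
open scoped ComplexInnerProductSpace

set_option linter.unusedSectionVars false

noncomputable section

variable {n : ℕ} {F : Type*} [Field F] [Fintype F]

section lower

variable {V : Type*} [NormedAddCommGroup V] [InnerProductSpace ℂ V] [FiniteDimensional ℂ V]
  {ρ : Representation ℂ (SLn n F) V}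

/-- A weak bound without exceptions. -/
theorem deg_lower (hn : 3 ≤ n) (hU : IsUnitary ρ) [ρ.IsIrreducible] (hnt : ∃ g v, ρ g v ≠ v) :
    Fintype.card F ^ (n - 1) - 1 ≤ finrank ℂ V ∧
    (finrank ℂ V = Fintype.card F ^ (n - 1) - 1 → ∀ x : Vec n F, x ≠ 0 → Csp ρ (Submodule.span F {x}) = ⊥) := by
  obtain ⟨ψ, hψ⟩ := exists_addChar F
  have key : ∀ x : Vec n F, x ≠ 0 →
      finrank ℂ (Csp ρ (Submodule.span F {x})) + (Fintype.card F ^ (n - 1) - 1) ≤ finrank ℂ V := by
    intro x hx
    obtain ⟨z, -, hz⟩ := SetLike.exists_of_lt (span_singleton_ne_top hn x).lt_top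
    have hstr := orth_structure (ρ := ρ) hn hU hψ hx hz
    set m := finrank ℂ ((Csp ρ (Submodule.span F {x}))ᗮ ⊓ Esp ρ ψ (Submodule.span F {x}) x z : Submodule ℂ V)
    have hm0 : m ≠ 0 := fun h => Csp_ne_top hn hnt (finrank_span_singleton hx) (Submodule.eq_top_of_finrank_eq (by
      rw [h, mul_zero, add_zero] at hstr; exact hstr.symm))
    rw [hstr]
    exact Nat.add_le_add_left (Nat.le_mul_of_pos_right _ (Nat.pos_of_ne_zero hm0)) _
  refine ⟨?_, fun hk x hx => Submodule.finrank_eq_zero.mp ?_⟩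
  · have hx : (Pi.single ⟨0, by omega⟩ 1 : Vec n F) ≠ 0 := fun h => by simpa using congrFun h ⟨0, by omega⟩
    have := key _ hx
    omega
  · have := key x hx
    omega

end lower

variable (X : Type*) [Fintype X] [MulAction (SLn n F) X]

/-- The permutation representation on a Hilbert space. -/
def permRep : Representation ℂ (SLn n F) (EuclideanSpace ℂ X) where
  toFun g :=
    { toFun := fun v => WithLp.toLp 2 fun x => v (g⁻¹ • x)
      map_add' := fun v w => by ext x; simp
      map_smul' := fun c v => by ext x; simp }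
  map_one' := by ext v x; simp
  map_mul' g h := by ext v x; simp [mul_smul]

@[simp] theorem permRep_apply (g : SLn n F) (v : EuclideanSpace ℂ X) (x : X) : permRep X g v x = v (g⁻¹ • x) := rfl

theorem permRep_unitary : IsUnitary (permRep (n := n) (F := F) X) := by
  intro g v w
  simp only [PiLp.inner_apply, permRep_apply]
  exact Fintype.sum_equiv (MulAction.toPerm g⁻¹) _ _ fun x => rfl

/-- The vectors of sum zero. -/
def sumZero : Submodule ℂ (EuclideanSpace ℂ X) where
  carrier := {v | ∑ x, v x = 0}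
  add_mem' {v w} hv hw := by
    show ∑ x, (v + w) x = 0
    simp only [PiLp.add_apply, Finset.sum_add_distrib]
    rw [hv, hw, add_zero]
  zero_mem' := by simp
  smul_mem' c v hv := by
    show ∑ x, (c • v) x = 0
    simp only [PiLp.smul_apply, smul_eq_mul, ← Finset.mul_sum]
    rw [hv, mul_zero]

theorem mem_sumZero {v : EuclideanSpace ℂ X} : v ∈ sumZero X ↔ ∑ x, v x = 0 := Iff.rfl

theorem sumZero_inv (g : SLn n F) : ∀ v ∈ sumZero X, permRep X g v ∈ sumZero X := by
  intro v hv
  rw [mem_sumZero] at hv ⊢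
  rw [← hv]
  exact Fintype.sum_equiv (MulAction.toPerm g⁻¹) _ _ fun x => rfl

theorem finrank_sumZero [Nonempty X] : finrank ℂ (sumZero X) + 1 = Fintype.card X := by
  classical
  let f : EuclideanSpace ℂ X →ₗ[ℂ] ℂ :=
    { toFun := fun v => ∑ x, v x
      map_add' := fun v w => by simp [Finset.sum_add_distrib]
      map_smul' := fun c v => by simp [Finset.mul_sum] }
  have hker : f.ker = sumZero X := rfl
  have hr : f.range = ⊤ := by
    refine LinearMap.range_eq_top.mpr fun c => ⟨EuclideanSpace.single (Classical.arbitrary X) c, ?_⟩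
    simp [f]
  have h := f.finrank_range_add_finrank_ker
  rw [hker, hr, finrank_top, finrank_self, finrank_euclideanSpace] at h
  omega

variable [MulAction.IsPretransitive (SLn n F) X] [Nonempty X]

theorem fixed_sumZero {v : EuclideanSpace ℂ X} (hv : v ∈ sumZero X)
    (hfix : ∀ g : SLn n F, permRep X g v = v) : v = 0 := by
  classical
  have hconst : ∀ a b, v a = v b := fun a b => by
    obtain ⟨g, hg⟩ := MulAction.exists_smul_eq (SLn n F) a b
    have := congrArg (fun w : EuclideanSpace ℂ X => w b) (hfix g)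
    simp only [permRep_apply] at this
    rw [← hg, inv_smul_smul] at this
    rw [← hg]; exact this
  ext a
  rw [mem_sumZero, Finset.sum_congr rfl fun b _ => hconst b a, Finset.sum_const, Finset.card_univ,
    nsmul_eq_mul, mul_eq_zero] at hv
  rcases hv with h | h
  · exact absurd h (by exact_mod_cast Fintype.card_ne_zero)
  · simpa using h

/-- A minimal invariant subspace of the sum zero vectors. -/
theorem exists_minimal {U : Submodule ℂ (EuclideanSpace ℂ X)} (hU0 : U ≠ ⊥)
    (hUi : ∀ g : SLn n F, ∀ v ∈ U, permRep X g v ∈ U) :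
    ∃ Y : Submodule ℂ (EuclideanSpace ℂ X), ∃ hY : ∀ g : SLn n F, ∀ v ∈ Y, permRep X g v ∈ Y,
      Y ≤ U ∧ Y ≠ ⊥ ∧ (subRep (permRep X) Y hY).IsIrreducible := by
  classical
  have hex : ∃ d, ∃ Y : Submodule ℂ (EuclideanSpace ℂ X), Y ≤ U ∧ Y ≠ ⊥ ∧
      (∀ g : SLn n F, ∀ v ∈ Y, permRep X g v ∈ Y) ∧ finrank ℂ Y = d := ⟨_, U, le_rfl, hU0, hUi, rfl⟩
  obtain ⟨Y, hYU, hY0, hYi, hYd⟩ := Nat.find_spec hex
  refine ⟨Y, hYi, hYU, hY0, subRep_irreducible (permRep X) Y hYi hY0 fun Z hZ hZ0 hZi => ?_⟩
  refine Submodule.eq_of_le_of_finrank_le hZ ?_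
  rw [hYd]
  exact Nat.find_le ⟨Z, hZ.trans hYU, hZ0, hZi, rfl⟩

theorem nontrivial_part {Y : Submodule ℂ (EuclideanSpace ℂ X)} (hY : ∀ g : SLn n F, ∀ v ∈ Y, permRep X g v ∈ Y)
    (hle : Y ≤ sumZero X) (hY0 : Y ≠ ⊥) : ∃ g v, subRep (permRep X) Y hY g v ≠ v := by
  by_contra hcon
  push_neg at hcon
  exact hY0 ((Submodule.eq_bot_iff _).mpr fun v hv =>
    fixed_sumZero X (hle hv) fun g => congrArg Subtype.val (hcon g ⟨v, hv⟩))

theorem index_bound (hn : 3 ≤ n)
    (hex : (n, Fintype.card F) ≠ (3, 2) ∧ (n, Fintype.card F) ≠ (3, 4) ∧ (n, Fintype.card F) ≠ (4, 2) ∧ (n, Fintype.card F) ≠ (4, 3))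
    (hX : 2 ≤ Fintype.card X) : Nat.card (Pt n F) ≤ Fintype.card X := by
  have hdim := finrank_sumZero X
  have h0 : sumZero X ≠ ⊥ := fun h => by rw [h, finrank_bot] at hdim; omega
  obtain ⟨Y, hY, hle, hY0, hirr⟩ := exists_minimal (n := n) (F := F) X h0 (sumZero_inv X)
  have hU' := subRep_unitary (permRep (n := n) (F := F) X) Y hY (permRep_unitary X)
  have := main_bound hn hex hU' (nontrivial_part X hY hle hY0)
  have := Submodule.finrank_mono hle
  omega

/-- Small transitive actions are regular for the elation groups. -/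
theorem index_small (hn : 3 ≤ n) (hX : 2 ≤ Fintype.card X)
    (hsmall : Fintype.card X + 1 < 2 * Fintype.card F ^ (n - 1)) :
    Fintype.card F ^ (n - 1) ≤ Fintype.card X ∧
    Fintype.card X - 1 ∣ Nat.card (SLn n F) ∧ Fintype.card X ∣ Nat.card (SLn n F) ∧
    (Fintype.card X = Fintype.card F ^ (n - 1) →
      ∀ (x : Vec n F) (hx : x ≠ 0) (ω : X), Function.Bijective (fun φ : {φ : Vec n F // φ ⬝ᵥ x = 0} =>
        (tv x φ.1 φ.2) • ω)) := by
  classical
  have hdim := finrank_sumZero X
  have h0 : sumZero X ≠ ⊥ := fun h => by rw [h, finrank_bot] at hdim; omega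
  obtain ⟨Y, hY, hle, hY0, hirr⟩ := exists_minimal (n := n) (F := F) X h0 (sumZero_inv X)
  have hU := permRep_unitary (n := n) (F := F) X
  have hU' := subRep_unitary (permRep (n := n) (F := F) X) Y hY hU
  have hlow := deg_lower hn hU' (nontrivial_part X hY hle hY0)
  have hsum := Submodule.finrank_add_inf_finrank_orthogonal hle
  have hYeq : Y = sumZero X := by
    by_contra hne
    have hne' : Yᗮ ⊓ sumZero X ≠ ⊥ := fun h => by
      rw [h, finrank_bot, add_zero] at hsum
      exact hne (Submodule.eq_of_le_of_finrank_eq hle hsum)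
    obtain ⟨Y', hY', hle', hY0', hirr'⟩ := exists_minimal (n := n) (F := F) X hne' fun g v hv =>
      ⟨invariant_orthogonal hU (H := ⊤) (fun g _ v hv => hY g v hv) g (Subgroup.mem_top g) v hv.1, sumZero_inv X g v hv.2⟩
    have hU'' := subRep_unitary (permRep (n := n) (F := F) X) Y' hY' hU
    have hlow' := deg_lower hn hU'' (nontrivial_part X hY' (hle'.trans inf_le_right) hY0')
    have := Submodule.finrank_mono hle'
    have := hlow.1; have := hlow'.1
    omega
  have hk : finrank ℂ Y = Fintype.card X - 1 := by rw [hYeq]; omega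
  have hXdvd : Fintype.card X ∣ Nat.card (SLn n F) := by
    obtain ⟨ω⟩ := ‹Nonempty X›
    have h := MulAction.index_stabilizer_of_transitive (SLn n F) ω
    rw [← Nat.card_eq_fintype_card, ← h]
    exact Subgroup.index_dvd_card _
  have hQ : 0 < Fintype.card F ^ (n - 1) := pow_pos Fintype.card_pos _
  refine ⟨by have := hlow.1; omega, ?_, hXdvd, fun heq x hx ω => ?_⟩
  · rw [← hk]; exact Cfsg.Agent.Lib.Characters.finrank_dvd_card (subRep (permRep X) Y hY)
  have hC := hlow.2 (by omega) x hx
  let T : {φ : Vec n F // φ ⬝ᵥ x = 0} → X := fun φ => (tv x φ.1 φ.2) • ω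
  have hsurj : Function.Surjective T := by
    by_contra hns
    simp only [Function.Surjective, not_forall, not_exists] at hns
    obtain ⟨y, hy⟩ := hns
    let O : Finset X := Finset.univ.filter fun z => ∃ φ, T φ = z
    let v : EuclideanSpace ℂ X := WithLp.toLp 2 fun z => (if z ∈ O then (Fintype.card X : ℂ) else 0) - (O.card : ℂ)
    have hv : v ∈ sumZero X := by
      rw [mem_sumZero]
      simp [v, Finset.sum_sub_distrib, Finset.sum_ite_mem, mul_comm]
    have hvC : (⟨v, hYeq ▸ hv⟩ : Y) ∈ Csp (subRep (permRep X) Y hY) (Submodule.span F {x}) := by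
      rintro t ⟨a, φ, h, ha, hφ, rfl⟩
      obtain ⟨c, rfl⟩ := Submodule.mem_span_singleton.mp ha
      have hφx : φ ⬝ᵥ x = 0 := hφ x (Submodule.mem_span_singleton_self x)
      have h1 : (c • φ) ⬝ᵥ x = 0 := by rw [smul_dotProduct, hφx, smul_zero]
      rw [tv_smul c x φ h h1]
      apply Subtype.ext
      rw [subRep_apply]
      ext z
      have hiff : (tv x (c • φ) h1)⁻¹ • z ∈ O ↔ z ∈ O := by
        simp only [O, Finset.mem_filter, Finset.mem_univ, true_and, T]
        constructor
        · rintro ⟨ψ, hψ⟩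
          refine ⟨⟨c • φ + ψ.1, by rw [add_dotProduct, h1, ψ.2, add_zero]⟩, ?_⟩
          show tv x (c • φ + ψ.1) _ • ω = z
          rw [← tv_mul h1 ψ.2, mul_smul, hψ, smul_inv_smul]
        · rintro ⟨ψ, hψ⟩
          refine ⟨⟨ψ.1 - c • φ, by rw [sub_dotProduct, h1, ψ.2, sub_zero]⟩, ?_⟩
          have h2 : (ψ.1 - c • φ) ⬝ᵥ x = 0 := by rw [sub_dotProduct, h1, ψ.2, sub_zero]
          show tv x (ψ.1 - c • φ) h2 • ω = _
          rw [eq_inv_smul_iff, ← mul_smul, tv_mul]
          refine Eq.trans ?_ hψ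
          exact congrArg (· • ω) (tv_congr rfl (add_sub_cancel _ _) _ _)
      simp only [permRep_apply, v, hiff]
    rw [hC, Submodule.mem_bot] at hvC
    have hv0 : v = 0 := congrArg Subtype.val hvC
    have h1 : v (T ⟨0, zero_dotProduct x⟩) = 0 := by rw [hv0]; simp
    have h2 : v y = 0 := by rw [hv0]; simp
    have hy' : y ∉ O := by simp [O]; exact fun φ hφ => hy ⟨φ, hφ⟩
    have hin : T ⟨0, zero_dotProduct x⟩ ∈ O := by simp only [O, Finset.mem_filter, Finset.mem_univ, true_and]; exact ⟨_, rfl⟩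
    simp only [v, if_neg hy', zero_sub, neg_eq_zero, Nat.cast_eq_zero, Finset.card_eq_zero] at h2
    rw [h2] at hin
    exact Finset.notMem_empty _ hin
  haveI : Fintype {φ : Vec n F // φ ⬝ᵥ x = 0} := Fintype.ofFinite _
  refine (Fintype.bijective_iff_surjective_and_card T).mpr ⟨hsurj, ?_⟩
  rw [heq, ← Nat.card_eq_fintype_card]
  have hset : Nat.card {φ : Vec n F // φ ⬝ᵥ x = 0} = Nat.card (ofVec x).ker :=
    Nat.card_congr (Equiv.subtypeEquivRight fun φ => by rw [LinearMap.mem_ker, ofVec_apply, dotProduct_comm])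
  rw [hset, card_submodule]
  congr 1
  have h := (ofVec x).finrank_range_add_finrank_ker
  have hr : finrank F (ofVec x).range = 1 := by
    apply le_antisymm
    · exact (Submodule.finrank_le _).trans (finrank_self F).le
    · rw [Nat.one_le_iff_ne_zero, ne_eq, Submodule.finrank_eq_zero]
      intro e
      refine hx (dotProduct_eq _ _ fun w => ?_)
      have : ofVec x w ∈ (ofVec x).range := LinearMap.mem_range_self _ w
      rw [e, Submodule.mem_bot] at this
      rw [zero_dotProduct]; exact this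
  rw [finrank_fin_fun, hr] at h
  omega

/-- In odd dimension three over a field of characteristic two an involution is a transvection. -/
theorem involution_is_tv (h3 : n = 3) (h2 : (2 : F) = 0) {g : SLn n F} (hg : g * g = 1) (hg1 : g ≠ 1) :
    ∃ a φ, ∃ h : φ ⬝ᵥ a = 0, a ≠ 0 ∧ g = tv a φ h := by
  let D : Vec n F →ₗ[F] Vec n F := actL g - LinearMap.id
  have hD : ∀ v, D v = act g v - v := fun v => rfl
  have hDD : ∀ v, D (D v) = 0 := fun v => by
    rw [hD, hD, sub_eq_add_neg (act g v), act_add, show act g (-v) = -act g v from (actL g).map_neg v, ← act_mul, hg,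
      act_one]
    rw [show v + -act g v - (act g v + -v) = (2 : F) • (v - act g v) by module, h2, zero_smul]
  have hle : D.range ≤ D.ker := by rintro _ ⟨v, rfl⟩; exact hDD v
  have h1 := D.finrank_range_add_finrank_ker
  have h4 := Submodule.finrank_mono hle
  rw [finrank_fin_fun] at h1
  have hr : finrank F D.range ≠ 0 := fun e => hg1 (act_ext fun v => by
    have : D v ∈ D.range := LinearMap.mem_range_self D v
    rw [Submodule.finrank_eq_zero.mp e, Submodule.mem_bot, hD, sub_eq_zero] at this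
    rw [this, act_one])
  obtain ⟨a, ha, hspan⟩ := exists_point_vec (p := D.range) (by omega)
  have hc : ∀ v, ∃ c : F, c • a = D v := fun v => Submodule.mem_span_singleton.mp (hspan ▸ LinearMap.mem_range_self D v)
  choose c hc using hc
  let f : Vec n F →ₗ[F] F :=
    { toFun := c
      map_add' := fun v w => smul_left_injective F ha (by simp only [add_smul, hc, map_add])
      map_smul' := fun t v => smul_left_injective F ha (by simp only [RingHom.id_apply, smul_eq_mul, mul_smul, hc, map_smul]) }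
  have h0 : toVec f ⬝ᵥ a = 0 := by
    rw [toVec_dot]
    obtain ⟨u, hu⟩ : a ∈ D.range := hspan ▸ Submodule.mem_span_singleton_self a
    have : D a = 0 := hu ▸ hDD u
    exact smul_left_injective F ha (show c a • a = (0 : F) • a by rw [hc, this, zero_smul])
  refine ⟨a, toVec f, h0, ha, act_ext fun v => ?_⟩
  rw [act_tv, toVec_dot, show f v • a = D v from hc v, hD, add_sub_cancel]

theorem no_fixed_tv {x : Vec n F} (hx : x ≠ 0)
    (hbij : ∀ ω : X, Function.Bijective (fun φ : {φ : Vec n F // φ ⬝ᵥ x = 0} => (tv x φ.1 φ.2) • ω))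
    {φ : Vec n F} (h : φ ⬝ᵥ x = 0) {ω : X} (hfix : tv x φ h • ω = ω) : φ = 0 := by
  have := (hbij ω).1 (a₁ := ⟨φ, h⟩) (a₂ := ⟨0, zero_dotProduct x⟩) (by simp only [tv_zero, one_smul]; exact hfix)
  exact congrArg Subtype.val this

end

end Cfsg.Agent.Lib.KnownA.LS
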