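import Mathlib
import Cfsg.Agent.Lib.KnownA.LS.Index

/-! `SL_4(3)` has no transitive action of degree 27 in which the elation groups act regularly. -/

set_option autoImplicit false
set_option maxHeartbeats 400000

namespace Cfsg.Agent.Lib.KnownA.LS

open Module Matrix

noncomputable section

variable {F : Type*} [Field F] [Fintype F]

theorem eq_one_or_neg_one (hF : Fintype.card F = 3) {s : F} (hs : s ≠ 0) : s * s = 1 := by
  have h := FiniteField.pow_card_sub_one_eq_one s hs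
  rw [hF] at h
  rw [← sq]; exact h

theorem diag4_det (hF : Fintype.card F = 3) (u : Fˣ × Fˣ) :
    (Matrix.diagonal ![(1 : F), (u.1 : F), (u.2 : F), (u.1 : F) * u.2]).det = 1 := by
  rw [Matrix.det_diagonal, Fin.prod_univ_four]
  show (1 : F) * u.1 * u.2 * (u.1 * u.2) = 1
  linear_combination ((u.2 : F) * u.2) * eq_one_or_neg_one hF u.1.ne_zero + eq_one_or_neg_one hF u.2.ne_zero

/-- The diagonal four-group fixing the first coordinate. -/
def diag4 (hF : Fintype.card F = 3) : Fˣ × Fˣ →* SLn 4 F where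
  toFun u := ⟨Matrix.diagonal ![(1 : F), (u.1 : F), (u.2 : F), (u.1 : F) * u.2], diag4_det hF u⟩
  map_one' := by
    apply Subtype.ext
    show Matrix.diagonal ![(1 : F), _, _, _] = 1
    rw [← Matrix.diagonal_one]
    congr 1
    funext i
    fin_cases i <;> simp
  map_mul' u v := by
    apply Subtype.ext
    show Matrix.diagonal ![(1 : F), _, _, _] = Matrix.diagonal _ * Matrix.diagonal _
    rw [Matrix.diagonal_mul_diagonal]
    congr 1
    funext i
    fin_cases i <;> simp <;> ring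

theorem act_diag4 (hF : Fintype.card F = 3) (u : Fˣ × Fˣ) (y : Vec 4 F) (i : Fin 4) :
    act (diag4 hF u) y i = ![(1 : F), (u.1 : F), (u.2 : F), (u.1 : F) * u.2] i * y i := Matrix.mulVec_diagonal _ y i

theorem no_regular_27 (hF : Fintype.card F = 3) {X : Type*} [Fintype X] [MulAction (SLn 4 F) X]
    [MulAction.IsPretransitive (SLn 4 F) X] [Nonempty X]
    (hX : Fintype.card X = 27)
    (hbij : ∀ (x : Vec 4 F), x ≠ 0 → ∀ ω : X,
      Function.Bijective (fun φ : {φ : Vec 4 F // φ ⬝ᵥ x = 0} => (tv x φ.1 φ.2) • ω)) : False := by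
  classical
  haveI : Fact (Nat.Prime 2) := ⟨Nat.prime_two⟩
  have hneg : (-1 : F) ≠ 1 := by
    intro h
    have h2 : (2 : F) = 0 := by linear_combination -h
    have h3 : ((3 : ℕ) : F) = 0 := by rw [← hF]; exact FiniteField.cast_card_eq_zero F
    exact one_ne_zero (α := F) (by push_cast at h3; linear_combination h3 - h2)
  -- a common fixed point of the four-group
  letI : MulAction (Fˣ × Fˣ) X := MulAction.compHom X (diag4 hF)
  have hp : IsPGroup 2 (Fˣ × Fˣ) := IsPGroup.of_card (n := 2) (by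
    rw [Nat.card_prod, Nat.card_units, Nat.card_eq_fintype_card, hF]; norm_num)
  obtain ⟨ω, hω⟩ := hp.nonempty_fixed_point_of_prime_not_dvd_card X (by rw [Nat.card_eq_fintype_card, hX]; norm_num)
  have hfix : ∀ u : Fˣ × Fˣ, diag4 hF u • ω = ω := fun u => hω u
  let e : Fin 4 → Vec 4 F := fun i => Pi.single i 1
  have he : ∀ i, e i ≠ 0 := fun i h => by simpa [e] using congrFun h i
  have hd : ∀ (i : Fin 4) (c : F) (j : Fin 4), i ≠ j → (c • e j) ⬝ᵥ e i = 0 := fun i c j hij => by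
    simp [e, dotProduct_single, Pi.single_eq_of_ne hij]
  -- a lift of a root element fixing `ω`
  have hlift : ∀ (w : SLn 4 F), ∃ φ, ∃ h : φ ⬝ᵥ e 0 = 0, (w * tv (e 0) φ h) • ω = ω := fun w => by
    obtain ⟨⟨φ, h⟩, hφ⟩ := (hbij (e 0) (he 0) ω).2 (w⁻¹ • ω)
    exact ⟨φ, h, by rw [mul_smul, show tv (e 0) φ h • ω = w⁻¹ • ω from hφ, smul_inv_smul]⟩
  have huniq : ∀ (w : SLn 4 F) (φ ψ : Vec 4 F) (h : φ ⬝ᵥ e 0 = 0) (h' : ψ ⬝ᵥ e 0 = 0),
      (w * tv (e 0) φ h) • ω = ω → (w * tv (e 0) ψ h') • ω = ω → φ = ψ := by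
    intro w φ ψ h h' e1 e2
    have : tv (e 0) φ h • ω = tv (e 0) ψ h' • ω := smul_left_cancel w (by rw [← mul_smul, ← mul_smul, e1, e2])
    exact congrArg Subtype.val ((hbij (e 0) (he 0) ω).1 (a₁ := ⟨φ, h⟩) (a₂ := ⟨ψ, h'⟩) this)
  -- invariance of lifts
  have hinv : ∀ (i j : Fin 4) (u : Fˣ × Fˣ) (hij : i ≠ j) (φ : Vec 4 F) (h : φ ⬝ᵥ e 0 = 0),
      ![(1 : F), (u.1 : F), (u.2 : F), (u.1 : F) * u.2] i = ![(1 : F), (u.1 : F), (u.2 : F), (u.1 : F) * u.2] j →
      (tv (e i) ((1 : F) • e j) (hd i 1 j hij) * tv (e 0) φ h) • ω = ω →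
      ∀ k, φ k = ![(1 : F), (u.1 : F), (u.2 : F), (u.1 : F) * u.2] k * φ k := by
    intro i j u hij φ h hs hfx k
    set s := ![(1 : F), (u.1 : F), (u.2 : F), (u.1 : F) * u.2] with hsdef
    have hφ0 : φ 0 = 0 := by simpa [e, dotProduct_single] using h
    have h' : (fun k => s k * φ k) ⬝ᵥ e 0 = 0 := by simp [e, dotProduct_single, hφ0]
    have hss : ∀ k, s k * s k = 1 := fun k => by
      fin_cases k
      · simp [hsdef]
      · simpa [hsdef] using eq_one_or_neg_one hF u.1.ne_zero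
      · simpa [hsdef] using eq_one_or_neg_one hF u.2.ne_zero
      · simpa [hsdef] using eq_one_or_neg_one hF (mul_ne_zero u.1.ne_zero u.2.ne_zero)
    have hcomm : diag4 hF u * (tv (e i) ((1 : F) • e j) (hd i 1 j hij) * tv (e 0) φ h) =
        tv (e i) ((1 : F) • e j) (hd i 1 j hij) * tv (e 0) (fun k => s k * φ k) h' * diag4 hF u := by
      refine act_ext fun y => funext fun l => ?_
      have hdot : (fun k => s k * φ k) ⬝ᵥ act (diag4 hF u) y = φ ⬝ᵥ y := by
        simp only [dotProduct]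
        refine Finset.sum_congr rfl fun k _ => ?_
        rw [act_diag4]
        linear_combination (φ k * y k) * hss k
      have hs0 : s 0 = 1 := by simp [hsdef]
      simp only [act_mul, act_tv, act_diag4, hdot, Pi.add_apply, Pi.smul_apply, smul_eq_mul, one_smul, dotProduct_add,
        dotProduct_smul, smul_dotProduct, one_mul, e, single_dotProduct, Pi.single_apply, ← hsdef]
      have hl0 : ∀ m : Fin 4, s m * (if m = 0 then (1 : F) else 0) = if m = 0 then 1 else 0 := fun m => by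
        split_ifs with hm
        · rw [hm, hs0, one_mul]
        · rw [mul_zero]
      have hli : s l * (if l = i then (1 : F) else 0) = s j * if l = i then 1 else 0 := by
        split_ifs with hm
        · rw [hm, hs]
        · rw [mul_zero, mul_zero]
      linear_combination (φ ⬝ᵥ y) * hl0 l + (y j + φ ⬝ᵥ y * if j = 0 then (1 : F) else 0) * hli +
        (φ ⬝ᵥ y * if l = i then (1 : F) else 0) * hl0 j
    have h2 : (tv (e i) ((1 : F) • e j) (hd i 1 j hij) * tv (e 0) (fun k => s k * φ k) h') • ω = ω := by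
      have h3 : (diag4 hF u * (tv (e i) ((1 : F) • e j) (hd i 1 j hij) * tv (e 0) φ h)) • ω =
          (tv (e i) ((1 : F) • e j) (hd i 1 j hij) * tv (e 0) (fun k => s k * φ k) h' * diag4 hF u) • ω := by rw [hcomm]
      rw [mul_smul (diag4 hF u), hfx, hfix, mul_smul (tv (e i) ((1 : F) • e j) _ * _), hfix] at h3
      exact h3.symm
    exact congrFun (huniq _ _ _ h h' hfx h2) k
  obtain ⟨φ₁, h₁, f₁⟩ := hlift (tv (e 1) ((1 : F) • e 3) (hd 1 1 3 (by decide)))
  obtain ⟨φ₂, h₂, f₂⟩ := hlift (tv (e 3) ((1 : F) • e 2) (hd 3 1 2 (by decide)))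
  obtain ⟨φ₃, h₃, f₃⟩ := hlift (tv (e 1) ((1 : F) • e 2) (hd 1 1 2 (by decide)))
  have kill : ∀ a : F, a = -1 * a → a = 0 := fun a h => by
    by_contra ha
    exact hneg (mul_right_cancel₀ ha ((one_mul a).trans h).symm)
  have i1 := hinv 1 3 (-1, 1) (by decide) φ₁ h₁ (by simp) f₁
  have i2 := hinv 3 2 (1, -1) (by decide) φ₂ h₂ (by simp) f₂
  have i3 := hinv 1 2 (-1, -1) (by decide) φ₃ h₃ (by simp) f₃
  have a0 : φ₁ 0 = 0 := by simpa [e, dotProduct_single] using h₁
  have b0 : φ₂ 0 = 0 := by simpa [e, dotProduct_single] using h₂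
  have c0 : φ₃ 0 = 0 := by simpa [e, dotProduct_single] using h₃
  have a1 : φ₁ 1 = 0 := kill _ (by simpa using i1 1)
  have a3 : φ₁ 3 = 0 := kill _ (by simpa using i1 3)
  have b2 : φ₂ 2 = 0 := kill _ (by simpa using i2 2)
  have b3 : φ₂ 3 = 0 := kill _ (by simpa using i2 3)
  have c1 : φ₃ 1 = 0 := kill _ (by simpa using i3 1)
  have c2 : φ₃ 2 = 0 := kill _ (by simpa using i3 2)
  set ψ : Vec 4 F := φ₂ 1 • e 2 - φ₂ 1 • e 3 with hψdef
  have hψ : ψ ⬝ᵥ e 0 = 0 := by simp [hψdef, e, dotProduct_single]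
  have hc : tv (e 1) ((1 : F) • e 3) (hd 1 1 3 (by decide)) * tv (e 0) φ₁ h₁ *
      (tv (e 3) ((1 : F) • e 2) (hd 3 1 2 (by decide)) * tv (e 0) φ₂ h₂) =
      tv (e 1) ((1 : F) • e 2) (hd 1 1 2 (by decide)) * tv (e 0) ψ hψ *
        ((tv (e 3) ((1 : F) • e 2) (hd 3 1 2 (by decide)) * tv (e 0) φ₂ h₂) *
          (tv (e 1) ((1 : F) • e 3) (hd 1 1 3 (by decide)) * tv (e 0) φ₁ h₁)) := by
    refine act_ext fun y => funext fun l => ?_
    simp only [act_mul, act_tv]
    fin_cases l <;>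
      simp [hψdef, e, dotProduct, Fin.sum_univ_four, Pi.single_apply, a0, a1, a3, b0, b2, b3] <;> ring
  have f₄ : (tv (e 1) ((1 : F) • e 2) (hd 1 1 2 (by decide)) * tv (e 0) ψ hψ) • ω = ω := by
    have := congrArg (· • ω) hc
    simp only [mul_smul] at this f₁ f₂ ⊢
    rw [f₂, f₁, f₂] at this
    exact this.symm
  have hψ3 := congrFun (huniq _ _ _ hψ h₃ f₄ f₃) 2
  simp [hψdef, e, c2] at hψ3
  have hφ₂ : φ₂ = 0 := funext fun i => by fin_cases i <;> simp [b0, hψ3, b2, b3]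
  have hfix3 : tv (e 3) ((1 : F) • e 2) (hd 3 1 2 (by decide)) • ω = ω := by
    rw [mul_smul] at f₂
    have : tv (e 0) φ₂ h₂ = 1 := (tv_congr rfl hφ₂ _ (zero_dotProduct _)).trans (tv_zero _)
    rw [this] at f₂
    rw [one_smul (SLn 4 F) ω] at f₂
    exact f₂
  have := no_fixed_tv X (he 3) (hbij (e 3) (he 3)) _ hfix3
  have := congrFun this 2
  simp [e] at this

end

end Cfsg.Agent.Lib.KnownA.LS
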