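import Mathlib
import Cfsg.Agent.Lib.KnownA.LS.FourThree

/-! The smallest index of a proper subgroup of `PSL_n`. -/

set_option autoImplicit false
set_option maxHeartbeats 400000

namespace Cfsg.Agent.Lib.KnownA.LS

open Module Matrix

noncomputable section

variable {n : ℕ} {F : Type*} [Field F] [Fintype F]

theorem card_SL_eq {c N : ℕ} (hc : Fintype.card F = c) (hn : 1 ≤ n)
    (h : ∏ i : Fin n, (c ^ n - c ^ (i : ℕ)) = (c - 1) * N) : Nat.card (SLn n F) = N := by
  have h' := Cfsg.Agent.Lib.Classical.card_SL_mul (F := F) hn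
  rw [hc, h] at h'
  refine Nat.eq_of_mul_eq_mul_left ?_ h'
  rw [← hc]
  exact Nat.sub_pos_of_lt Fintype.one_lt_card

theorem even_case (h3 : n = 3) (h2 : (2 : F) = 0) (X : Type*) [Fintype X] [MulAction (SLn n F) X]
    [MulAction.IsPretransitive (SLn n F) X] [Nonempty X]
    (hbij : ∀ (x : Vec n F), x ≠ 0 → ∀ ω : X,
      Function.Bijective (fun φ : {φ : Vec n F // φ ⬝ᵥ x = 0} => (tv x φ.1 φ.2) • ω))
    (heven : 2 * Fintype.card X ∣ Nat.card (SLn n F)) : False := by
  obtain ⟨ω⟩ := ‹Nonempty X›
  have hi := (MulAction.stabilizer (SLn n F) ω).index_mul_card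
  rw [MulAction.index_stabilizer_of_transitive, Nat.card_eq_fintype_card] at hi
  rw [← hi, mul_comm 2] at heven
  have hdvd : 2 ∣ Nat.card (MulAction.stabilizer (SLn n F) ω) := Nat.dvd_of_mul_dvd_mul_left Fintype.card_pos heven
  haveI : Fact (Nat.Prime 2) := ⟨Nat.prime_two⟩
  obtain ⟨g, hg⟩ := exists_prime_orderOf_dvd_card' 2 hdvd
  have hg2 : (g : SLn n F) * (g : SLn n F) = 1 := by
    have h := congrArg (Subtype.val : MulAction.stabilizer (SLn n F) ω → SLn n F) (pow_orderOf_eq_one g)
    rw [hg, sq] at h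
    exact h
  have hg1 : (g : SLn n F) ≠ 1 := fun h => by
    rw [show g = 1 from Subtype.ext h, orderOf_one] at hg
    omega
  obtain ⟨a, φ, h, ha, hga⟩ := involution_is_tv h3 h2 hg2 hg1
  have hfix : tv a φ h • ω = ω := hga ▸ g.2
  have := no_fixed_tv X ha (hbij a ha) h hfix
  exact hg1 (by rw [hga, tv_congr rfl this h (zero_dotProduct a), tv_zero])

theorem index_all (hn : 3 ≤ n) (hexc : ¬ (n = 4 ∧ Fintype.card F = 2)) (X : Type*) [Fintype X]
    [MulAction (SLn n F) X] [MulAction.IsPretransitive (SLn n F) X] [Nonempty X] (hX : 2 ≤ Fintype.card X) :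
    Nat.card (Pt n F) ≤ Fintype.card X := by
  by_contra hcon
  have hsmall : Fintype.card X + 1 < 2 * Fintype.card F ^ (n - 1) := by
    have := pt_le_two_pow (F := F) hn
    have : 0 < Fintype.card F ^ (n - 1) := pow_pos Fintype.card_pos _
    omega
  obtain ⟨hlow, hd1, hd2, hreg⟩ := index_small X hn hX hsmall
  by_cases h32 : n = 3 ∧ Fintype.card F = 2
  · obtain ⟨rfl, hF⟩ := h32
    have hN : Nat.card (SLn 3 F) = 168 := card_SL_eq hF (by norm_num) (by rw [Fin.prod_univ_three]; norm_num)
    have hp := card_Pt (F := F) 3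
    rw [hF] at hp hlow hreg
    norm_num [-Nat.card_eq_fintype_card] at hp hlow hreg
    rw [hN] at hd1 hd2
    have hi : Fintype.card X = 4 := by
      have : Fintype.card X ≤ 6 := by omega
      interval_cases h : Fintype.card X <;> first | rfl | omega | norm_num at hd1 hd2
    have h2 : (2 : F) = 0 := by
      have := FiniteField.cast_card_eq_zero F
      rw [hF] at this; exact_mod_cast this
    exact even_case rfl h2 X (fun x hx ω => hreg hi x hx ω) (by rw [hN, hi]; norm_num)
  by_cases h34 : n = 3 ∧ Fintype.card F = 4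
  · obtain ⟨rfl, hF⟩ := h34
    have hN : Nat.card (SLn 3 F) = 60480 := card_SL_eq hF (by norm_num) (by rw [Fin.prod_univ_three]; norm_num)
    have hp := card_Pt (F := F) 3
    rw [hF] at hp hlow hreg
    norm_num [-Nat.card_eq_fintype_card] at hp hlow hreg
    rw [hN] at hd1 hd2
    have hi : Fintype.card X = 16 := by
      have : Fintype.card X ≤ 20 := by omega
      interval_cases h : Fintype.card X <;> first | rfl | omega | norm_num at hd1 hd2
    have h2 : (2 : F) = 0 := by
      have h4 := FiniteField.cast_card_eq_zero F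
      rw [hF] at h4
      push_cast at h4
      exact mul_self_eq_zero.mp (by linear_combination h4)
    exact even_case rfl h2 X (fun x hx ω => hreg hi x hx ω) (by rw [hN, hi]; norm_num)
  by_cases h43 : n = 4 ∧ Fintype.card F = 3
  · obtain ⟨rfl, hF⟩ := h43
    have hN : Nat.card (SLn 4 F) = 12130560 := card_SL_eq hF (by norm_num) (by rw [Fin.prod_univ_four]; norm_num)
    have hp := card_Pt (F := F) 4
    rw [hF] at hp hlow hreg
    norm_num [-Nat.card_eq_fintype_card] at hp hlow hreg
    rw [hN] at hd1 hd2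
    have hi : Fintype.card X = 27 := by
      have : Fintype.card X ≤ 39 := by omega
      interval_cases h : Fintype.card X <;> first | rfl | omega | norm_num at hd1 hd2
    exact no_regular_27 hF hi (fun x hx ω => hreg hi x hx ω)
  exact hcon (index_bound X hn ⟨fun h => h32 (Prod.mk.inj h), fun h => h34 (Prod.mk.inj h),
    fun h => hexc (Prod.mk.inj h), fun h => h43 (Prod.mk.inj h)⟩ hX)

theorem center_fix_point (hn : 3 ≤ n) {g : SLn n F} (hg : g ∈ Subgroup.center (SLn n F)) {p : Submodule F (Vec n F)}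
    (hp : finrank F p = 1) : moveS g p = p := by
  obtain ⟨x, hx, rfl⟩ := exists_point_vec hp
  obtain ⟨y, -, hy⟩ := SetLike.exists_of_lt (span_singleton_ne_top hn x).lt_top
  obtain ⟨φ, hφ, hφy⟩ := exists_functional hy
  have h : φ ⬝ᵥ x = 0 := hφ x (Submodule.mem_span_singleton_self x)
  have e := congrArg (fun t : SLn n F => act t y) (Subgroup.mem_center_iff.mp hg (tv x φ h)).symm
  simp only [act_mul, act_tv, hφy, one_smul, act_add] at e
  have e' : act g x = (φ ⬝ᵥ act g y) • x := add_left_cancel e
  rw [moveS_span, Set.image_singleton, e']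
  refine Submodule.span_singleton_smul_eq (IsUnit.mk0 _ fun h0 => hx ?_) x
  rw [h0, zero_smul] at e'
  have := congrArg (act g⁻¹) e'
  rwa [act_inv_act, show act g⁻¹ 0 = 0 from (actL g⁻¹).map_zero] at this

/-- The smallest index of a proper subgroup of `PSL_n`. -/
theorem psl_min_index {q : ℕ} (hF : Fintype.card F = q) (n : ℕ) (hn : 3 ≤ n) (hexc : ¬ (n = 4 ∧ q = 2)) :
    (∀ H : Subgroup (Matrix.ProjectiveSpecialLinearGroup (Fin n) F), H ≠ ⊤ → (q ^ n - 1) / (q - 1) ≤ H.index) ∧
    (∃ H : Subgroup (Matrix.ProjectiveSpecialLinearGroup (Fin n) F), H.index = (q ^ n - 1) / (q - 1)) := by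
  subst hF
  rw [← card_Pt_eq_div]
  let f : SLn n F →* Matrix.ProjectiveSpecialLinearGroup (Fin n) F :=
    QuotientGroup.mk' (Subgroup.center (SLn n F))
  have hf : Function.Surjective f := QuotientGroup.mk'_surjective _
  constructor
  · intro H hH
    rw [← Subgroup.index_comap_of_surjective H hf]
    haveI : Fintype (SLn n F ⧸ H.comap f) := Fintype.ofFinite _
    have hi : Fintype.card (SLn n F ⧸ H.comap f) = (H.comap f).index := by
      rw [Subgroup.index, Nat.card_eq_fintype_card]
    rw [← hi]
    refine index_all hn hexc _ ?_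
    have h1 : (H.comap f).index ≠ 1 := fun h => hH (by
      rw [← Subgroup.map_comap_eq_self_of_surjective hf H, Subgroup.index_eq_one.mp h, Subgroup.map_top_of_surjective f hf])
    have h0 := Fintype.card_pos (α := SLn n F ⧸ H.comap f)
    omega
  · classical
    letI := ptAction (n := n) (F := F)
    haveI : MulAction.IsPretransitive (SLn n F) (Pt n F) :=
      ⟨fun a b => (exists_map_point hn a.2 b.2).imp fun g hg => Subtype.ext hg⟩
    let p₀ : Pt n F := ⟨Submodule.span F {Pi.single ⟨0, by omega⟩ 1}, finrank_span_singleton fun h => by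
      simpa using congrFun h ⟨0, by omega⟩⟩
    refine ⟨(MulAction.stabilizer (SLn n F) p₀).map f, ?_⟩
    rw [Subgroup.index_map_eq _ hf, MulAction.index_stabilizer_of_transitive]
    intro g hg
    rw [QuotientGroup.ker_mk'] at hg
    exact Subtype.ext (center_fix_point hn hg p₀.2)

end

end Cfsg.Agent.Lib.KnownA.LS
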